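import Mathlib
import Groth.Prelude.Def_ChGrp
import Groth.Agent.Lib.Helper4.ActShear2
import Groth.Agent.Lib.Helper4.MaxOpenGrp

/-!
# Calculus of `T`-valued points: sections of `T ⊗ X`, translations, orbit maps
-/

set_option autoImplicit false
universe u

open CategoryTheory MonoidalCategory CartesianMonoidalCategory MonObj GrpObj AlgebraicGeometry Limits

namespace Groth.Agent.Lib.Helper24.NFT

open Groth.Agent.Lib.Helper4.ActShear Groth.Agent.Lib.Helper4.ActShear2

variable {S : Scheme.{u}} {G X : Over S} [GrpObj G] (a : AlgGrp.Action G X) {T : Over S}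

/-- the section of `T ⊗ X ⟶ T` defined by a `T`-point of `X` -/
noncomputable def sec (x : T ⟶ X) : T ⟶ T ⊗ X := lift (𝟙 T) x

omit [GrpObj G] in
@[simp] theorem sec_fst (x : T ⟶ X) : sec x ≫ fst T X = 𝟙 T := lift_fst _ _

omit [GrpObj G] in
@[simp] theorem sec_snd (x : T ⟶ X) : sec x ≫ snd T X = x := lift_snd _ _

theorem sec_shearT (g : T ⟶ G) (x : T ⟶ X) : sec x ≫ shearT a g = sec (smul a g x) := by
  unfold sec shearT
  apply CartesianMonoidalCategory.hom_ext
  · simp
  · rw [Category.assoc, lift_snd, lift_snd, comp_smul, ← Category.assoc, lift_fst,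
      Category.id_comp, lift_snd]

omit [GrpObj G] in
theorem sec_whiskerLeft {Y : Over S} (x : T ⟶ X) (φ : X ⟶ Y) :
    sec x ≫ (T ◁ φ) = sec (x ≫ φ) := by
  unfold sec
  apply CartesianMonoidalCategory.hom_ext
  · simp
  · simp

/-- the point of `T ⊗ X` over `t` defined by a `T`-point of `X` -/
noncomputable def ptOf (x : T ⟶ X) (t : T.left) : (T ⊗ X).left := (sec x).left.base t

omit [GrpObj G] in
theorem snd_ptOf (x : T ⟶ X) (t : T.left) : (snd T X).left.base (ptOf x t) = x.left.base t := by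
  unfold ptOf
  rw [← Scheme.Hom.comp_apply, ← Over.comp_left, sec_snd]

omit [GrpObj G] in
theorem fst_ptOf (x : T ⟶ X) (t : T.left) : (fst T X).left.base (ptOf x t) = t := by
  unfold ptOf
  rw [← Scheme.Hom.comp_apply, ← Over.comp_left, sec_fst]
  rfl

theorem shearT_ptOf (g : T ⟶ G) (x : T ⟶ X) (t : T.left) :
    (shearT a g).left.base (ptOf x t) = ptOf (smul a g x) t := by
  unfold ptOf
  rw [← Scheme.Hom.comp_apply, ← Over.comp_left, sec_shearT]

omit [GrpObj G] in
theorem whiskerLeft_ptOf {Y : Over S} (x : T ⟶ X) (φ : X ⟶ Y) (t : T.left) :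
    (T ◁ φ).left.base (ptOf x t) = ptOf (x ≫ φ) t := by
  unfold ptOf
  rw [← Scheme.Hom.comp_apply, ← Over.comp_left, sec_whiskerLeft]

/-- translation by a `T`-point as a homeomorphism of `T ⊗ X` -/
noncomputable def trT (g : T ⟶ G) : (T ⊗ X).left ≃ₜ (T ⊗ X).left :=
  (shearT a g).left.homeomorph

theorem trT_apply (g : T ⟶ G) (z : (T ⊗ X).left) : trT a g z = (shearT a g).left.base z := rfl

theorem trT_ptOf (g : T ⟶ G) (x : T ⟶ X) (t : T.left) :
    trT a g (ptOf x t) = ptOf (smul a g x) t := shearT_ptOf a g x t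

theorem smul_selfAct (g h : T ⟶ G) : smul (selfAct G) g h = g * h := rfl

/-- equivariance of the orbit map on `T`-points -/
theorem smul_comp_orbitMap (y : 𝟙_ (Over S) ⟶ X) (g h : T ⟶ G) :
    (g * h) ≫ a.orbitMap y = smul a g (h ≫ a.orbitMap y) := by
  rw [AlgGrp.Action.comp_orbitMap, AlgGrp.Action.comp_orbitMap]
  exact mul_smul' a g h (toUnit T ≫ y)

/-- the orbit map intertwines the translations on `T ⊗ G` and `T ⊗ X` -/
theorem shearT_orbitMap (y : 𝟙_ (Over S) ⟶ X) (d : T ⟶ G) :
    shearT (selfAct G) d ≫ (T ◁ a.orbitMap y) = (T ◁ a.orbitMap y) ≫ shearT a d := by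
  apply CartesianMonoidalCategory.hom_ext
  · simp [shearT]
  · unfold shearT
    rw [Category.assoc, whiskerLeft_snd, ← Category.assoc, lift_snd, Category.assoc, lift_snd,
      comp_smul, smul_selfAct, smul_comp_orbitMap, ← Category.assoc, whiskerLeft_fst,
      whiskerLeft_snd]

theorem trT_orbitMap (y : 𝟙_ (Over S) ⟶ X) (d : T ⟶ G) (z : (T ⊗ G).left) :
    (T ◁ a.orbitMap y).left.base (trT (selfAct G) d z) =
      trT a d ((T ◁ a.orbitMap y).left.base z) := by
  rw [trT_apply, trT_apply, ← Scheme.Hom.comp_apply, ← Scheme.Hom.comp_apply, ← Over.comp_left,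
    ← Over.comp_left, shearT_orbitMap]

/-- translating the unit section by `d` gives the section `d` -/
theorem trT_unit (d : T ⟶ G) (t : T.left) :
    trT (selfAct G) d (ptOf (toUnit T ≫ η[G]) t) = ptOf d t := by
  rw [trT_ptOf, smul_selfAct]
  congr 1
  exact mul_one d

theorem unit_comp_orbitMap (y : 𝟙_ (Over S) ⟶ X) :
    (toUnit T ≫ η[G]) ≫ a.orbitMap y = toUnit T ≫ y := by
  rw [AlgGrp.Action.comp_orbitMap]
  exact one_smul' a (toUnit T ≫ y)

end Groth.Agent.Lib.Helper24.NFT
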