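import Mathlib

/-!
# Points lying on a unique irreducible component: topological lemmas
-/

set_option autoImplicit false
universe u

open Set Topology

namespace Groth.Agent.Lib.Helper24.NFT

variable {α β : Type*} [TopologicalSpace α] [TopologicalSpace β]

/-- `x` lies on exactly one irreducible component -/
def UIC (x : α) : Prop := ∃! C, C ∈ irreducibleComponents α ∧ x ∈ C

theorem uic_iff {x : α} :
    UIC x ↔ ∀ C₁ ∈ irreducibleComponents α, ∀ C₂ ∈ irreducibleComponents α,
      x ∈ C₁ → x ∈ C₂ → C₁ = C₂ := by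
  constructor
  · rintro ⟨C, -, hC⟩ C₁ h₁ C₂ h₂ hx₁ hx₂
    rw [hC C₁ ⟨h₁, hx₁⟩, hC C₂ ⟨h₂, hx₂⟩]
  · intro h
    refine ⟨irreducibleComponent x,
      ⟨irreducibleComponent_mem_irreducibleComponents x, mem_irreducibleComponent⟩, ?_⟩
    rintro C ⟨hC, hxC⟩
    exact h _ hC _ (irreducibleComponent_mem_irreducibleComponents x) hxC mem_irreducibleComponent

theorem UIC.eq {x : α} (h : UIC x) {C₁ C₂ : Set α} (h₁ : C₁ ∈ irreducibleComponents α)
    (h₂ : C₂ ∈ irreducibleComponents α) (hx₁ : x ∈ C₁) (hx₂ : x ∈ C₂) : C₁ = C₂ :=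
  uic_iff.mp h _ h₁ _ h₂ hx₁ hx₂

theorem UIC.eq_irreducibleComponent {x : α} (h : UIC x) {C : Set α}
    (hC : C ∈ irreducibleComponents α) (hx : x ∈ C) : C = irreducibleComponent x :=
  h.eq hC (irreducibleComponent_mem_irreducibleComponents x) hx mem_irreducibleComponent

/-- an irreducible set through a `UIC` point lies in the component of that point -/
theorem UIC.subset_irreducibleComponent {x : α} (h : UIC x) {s : Set α} (hs : IsIrreducible s)
    (hx : x ∈ s) : s ⊆ irreducibleComponent x := by
  obtain ⟨C, hC, hsC⟩ := exists_mem_irreducibleComponents_subset_of_isIrreducible s hs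
  rw [← h.eq_irreducibleComponent hC (hsC hx)]
  exact hsC

theorem image_mem_irreducibleComponents_of_homeomorph (h : α ≃ₜ β) {C : Set α}
    (hC : C ∈ irreducibleComponents α) : h '' C ∈ irreducibleComponents β := by
  refine ⟨hC.1.image h h.continuous.continuousOn, ?_⟩
  intro D hD hCD
  have h1 : IsIrreducible (h.symm '' D) := hD.image h.symm h.symm.continuous.continuousOn
  have h2 : C ⊆ h.symm '' D := by
    intro c hc
    exact ⟨h c, hCD ⟨c, hc, rfl⟩, h.symm_apply_apply c⟩
  have h3 : h.symm '' D ⊆ C := hC.2 h1 h2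
  rintro d hd
  exact ⟨h.symm d, h3 ⟨d, hd, rfl⟩, h.apply_symm_apply d⟩

theorem uic_of_homeomorph (h : α ≃ₜ β) {x : α} (hx : UIC (h x)) : UIC x := by
  rw [uic_iff] at hx ⊢
  intro C₁ h₁ C₂ h₂ hx₁ hx₂
  have := hx _ (image_mem_irreducibleComponents_of_homeomorph h h₁) _
    (image_mem_irreducibleComponents_of_homeomorph h h₂) ⟨x, hx₁, rfl⟩ ⟨x, hx₂, rfl⟩
  exact (image_eq_image h.injective).mp this

theorem uic_homeomorph_iff (h : α ≃ₜ β) {x : α} : UIC (h x) ↔ UIC x := by
  refine ⟨uic_of_homeomorph h, fun hx => ?_⟩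
  apply uic_of_homeomorph h.symm
  rwa [h.symm_apply_apply]

/-- the image of the component of `x` under a homeomorphism is the component of the image -/
theorem image_irreducibleComponent_of_homeomorph (h : α ≃ₜ β) {x : α} (hx : UIC x) :
    h '' irreducibleComponent x = irreducibleComponent (h x) :=
  ((uic_homeomorph_iff h).mpr hx).eq_irreducibleComponent
    (image_mem_irreducibleComponents_of_homeomorph h
      (irreducibleComponent_mem_irreducibleComponents x)) ⟨x, mem_irreducibleComponent, rfl⟩

section fibres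

variable (f : α → β) (hf₁ : Continuous f) (hf₂ : IsOpenMap f)
  (hf₃ : ∀ x, IsPreirreducible (f ⁻¹' {x})) (hf₄ : Function.Surjective f)

include hf₁ hf₂ hf₃ hf₄

theorem uic_iff_of_isPreirreducible_fiber {x : α} : UIC x ↔ UIC (f x) := by
  let e := irreducibleComponentsEquivOfIsPreirreducibleFiber f hf₁ hf₂ hf₃ hf₄
  rw [uic_iff, uic_iff]
  constructor
  · intro h C₁ h₁ C₂ h₂ hx₁ hx₂
    have := h _ (e ⟨C₁, h₁⟩).2 _ (e ⟨C₂, h₂⟩).2 hx₁ hx₂
    have h' : e ⟨C₁, h₁⟩ = e ⟨C₂, h₂⟩ := Subtype.ext this
    exact congrArg Subtype.val (e.injective h')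
  · intro h C₁ h₁ C₂ h₂ hx₁ hx₂
    have := h _ (e.symm ⟨C₁, h₁⟩).2 _ (e.symm ⟨C₂, h₂⟩).2 ⟨x, hx₁, rfl⟩ ⟨x, hx₂, rfl⟩
    have h' : e.symm ⟨C₁, h₁⟩ = e.symm ⟨C₂, h₂⟩ := Subtype.ext this
    exact congrArg Subtype.val (e.symm.injective h')

theorem preimage_irreducibleComponent_of_isPreirreducible_fiber {x : α} (hx : UIC x) :
    f ⁻¹' irreducibleComponent (f x) = irreducibleComponent x := by
  have h1 : f ⁻¹' irreducibleComponent (f x) ∈ irreducibleComponents α :=
    preimage_mem_irreducibleComponents_of_isPreirreducible_fiber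
      (irreducibleComponent_mem_irreducibleComponents (f x)) hf₁ hf₂ hf₃
      ⟨f x, mem_irreducibleComponent, x, rfl⟩
  exact hx.eq_irreducibleComponent h1 (mem_irreducibleComponent (x := f x))

end fibres

/-- descent of pointwise irreducibility along a continuous surjective generalizing map -/
theorem uic_of_generalizingMap [QuasiSober β] (f : α → β) (hf₁ : Continuous f)
    (hf₂ : GeneralizingMap f) (hf₄ : Function.Surjective f) (h : ∀ x : α, UIC x) (y : β) :
    UIC y := by
  rw [uic_iff]
  intro C₁ h₁ C₂ h₂ hy₁ hy₂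
  obtain ⟨x, rfl⟩ := hf₄ y
  have key : ∀ C ∈ irreducibleComponents β, f x ∈ C →
      C = closure (f '' irreducibleComponent x) := by
    intro C hC hxC
    have hCcl : IsClosed C := isClosed_of_mem_irreducibleComponents C hC
    obtain ⟨ξ, hξ⟩ := QuasiSober.sober hC.1 hCcl
    have hsp : ξ ⤳ f x := by
      rw [specializes_iff_mem_closure, hξ.def]; exact hxC
    obtain ⟨ξ', hξ', rfl⟩ := hf₂ hsp
    have hmem : ξ' ∈ irreducibleComponent x := by
      have h3 : irreducibleComponent ξ' = irreducibleComponent x := by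
        refine (h x).eq (irreducibleComponent_mem_irreducibleComponents _)
          (irreducibleComponent_mem_irreducibleComponents _) ?_ mem_irreducibleComponent
        exact (hξ'.mem_closed isClosed_irreducibleComponent mem_irreducibleComponent)
      rw [← h3]; exact mem_irreducibleComponent
    have hirr : IsIrreducible (closure (f '' irreducibleComponent x)) :=
      (isIrreducible_irreducibleComponent.image f hf₁.continuousOn).closure
    have hsub : C ⊆ closure (f '' irreducibleComponent x) := by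
      rw [← hξ.def]
      exact closure_mono (singleton_subset_iff.mpr ⟨ξ', hmem, rfl⟩)
    exact subset_antisymm hsub (hC.2 hirr hsub)
  rw [key C₁ h₁ hy₁, key C₂ h₂ hy₂]

/-- the generic point of an irreducible component lies on no other component -/
theorem uic_of_isGenericPoint {ξ : α} {C : Set α} (hC : C ∈ irreducibleComponents α)
    (hξ : IsGenericPoint ξ C) : UIC ξ := by
  have key : ∀ D ∈ irreducibleComponents α, ξ ∈ D → D = C := by
    intro D hD hξD
    have hDcl : IsClosed D := isClosed_of_mem_irreducibleComponents D hD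
    have : C ⊆ D := by
      rw [← hξ.def]; exact closure_minimal (singleton_subset_iff.mpr hξD) hDcl
    exact (subset_antisymm (hC.2 hD.1 this) this)
  rw [uic_iff]
  intro C₁ h₁ C₂ h₂ hx₁ hx₂
  rw [key C₁ h₁ hx₁, key C₂ h₂ hx₂]

/-- in a quasi-sober space every point has a generization which is the generic point of an
irreducible component -/
theorem exists_generic_specializes [QuasiSober α] (x : α) :
    ∃ ξ : α, ξ ⤳ x ∧ IsGenericPoint ξ (irreducibleComponent x) := by
  obtain ⟨ξ, hξ⟩ := QuasiSober.sober (isIrreducible_irreducibleComponent (x := x))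
    isClosed_irreducibleComponent
  refine ⟨ξ, ?_, hξ⟩
  rw [specializes_iff_mem_closure, hξ.def]
  exact mem_irreducibleComponent

end Groth.Agent.Lib.Helper24.NFT
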