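import Mathlib
import Groth.Prelude.Def_ChGrp
import Groth.Agent.Lib.Helper22.SchGeomIrr
import Groth.Agent.Lib.Helper24.NFT.Top
import Groth.Agent.Lib.Helper24.NFT.TPoint

/-!
# Schemes over a field: projections from products with the spectrum of a field
-/

set_option autoImplicit false
universe u

open CategoryTheory MonoidalCategory CartesianMonoidalCategory MonObj GrpObj AlgebraicGeometry Limits

namespace Groth.Agent.Lib.Helper24.NFT

section proj

variable {Y X : Scheme.{u}} (p : Y ⟶ X)

theorem uic_iff_proj [GeometricallyIrreducible p] [UniversallyOpen p] {y : Y} :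
    UIC y ↔ UIC (p.base y) :=
  uic_iff_of_isPreirreducible_fiber p.base p.continuous p.isOpenMap
    (fun _ => (p.isIrreducible_preimage p.isOpenMap isIrreducible_singleton).isPreirreducible)
    p.surjective

theorem preimage_irreducibleComponent_proj [GeometricallyIrreducible p] [UniversallyOpen p]
    {y : Y} (hy : UIC y) :
    p.base ⁻¹' irreducibleComponent (p.base y) = irreducibleComponent y :=
  preimage_irreducibleComponent_of_isPreirreducible_fiber p.base p.continuous p.isOpenMap
    (fun _ => (p.isIrreducible_preimage p.isOpenMap isIrreducible_singleton).isPreirreducible)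
    p.surjective hy

theorem uic_of_proj [Flat p] [Surjective p] (h : ∀ y : Y, UIC y) (x : X) : UIC x :=
  uic_of_generalizingMap p.base p.continuous (Flat.generalizingMap p) p.surjective h x

end proj

variable {k : Type u} [Field k]

theorem geomIrr_of_field [IsAlgClosed k] (K : Type u) [Field K]
    (f : Spec (CommRingCat.of K) ⟶ Spec (CommRingCat.of k)) : GeometricallyIrreducible f := by
  letI : Algebra k K := (Spec.preimage f).hom.toAlgebra
  have h := Groth.Agent.Lib.Helper22.SchGeomIrr.geometricallyIrreducible_specMap (k := k) (K := K)
  have e : Spec.map (CommRingCat.ofHom (algebraMap k K)) = f := Spec.map_preimage f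
  rw [← e]
  exact h

theorem surjective_of_nonempty {Y : Scheme.{u}} [Nonempty Y] (f : Y ⟶ Spec (CommRingCat.of k)) :
    Surjective f := by
  constructor
  intro x
  obtain ⟨y⟩ := ‹Nonempty Y›
  exact ⟨y, Subsingleton.elim _ _⟩

/-- the spectrum of the residue field of a point, as an object over the base field -/
noncomputable def resT (Y : Over (Spec (CommRingCat.of k))) (w : Y.left) :
    Over (Spec (CommRingCat.of k)) :=
  Over.mk (Y.left.fromSpecResidueField w ≫ Y.hom)

/-- the canonical point with values in the residue field -/
noncomputable def resPt (Y : Over (Spec (CommRingCat.of k))) (w : Y.left) : resT Y w ⟶ Y :=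
  Over.homMk (Y.left.fromSpecResidueField w) rfl

/-- the unique point of `resT Y w` -/
noncomputable def resO (Y : Over (Spec (CommRingCat.of k))) (w : Y.left) : (resT Y w).left :=
  IsLocalRing.closedPoint (Y.left.residueField w)

theorem resPt_resO (Y : Over (Spec (CommRingCat.of k))) (w : Y.left) :
    (resPt Y w).left.base (resO Y w) = w :=
  Scheme.fromSpecResidueField_apply _ _

instance (Y : Over (Spec (CommRingCat.of k))) (w : Y.left) : Nonempty (resT Y w).left :=
  ⟨resO Y w⟩

instance [IsAlgClosed k] (Y : Over (Spec (CommRingCat.of k))) (w : Y.left) :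
    GeometricallyIrreducible (resT Y w).hom :=
  geomIrr_of_field (Y.left.residueField w) _

section snd

variable (T X : Over (Spec (CommRingCat.of k)))

instance : UniversallyOpen (snd T X).left :=
  inferInstanceAs (UniversallyOpen (pullback.snd T.hom X.hom))

instance : Flat (snd T X).left :=
  inferInstanceAs (Flat (pullback.snd T.hom X.hom))

instance [Nonempty T.left] : Surjective (snd T X).left :=
  haveI : Surjective T.hom := surjective_of_nonempty T.hom
  inferInstanceAs (Surjective (pullback.snd T.hom X.hom))

instance [GeometricallyIrreducible T.hom] : GeometricallyIrreducible (snd T X).left :=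
  inferInstanceAs (GeometricallyIrreducible (pullback.snd T.hom X.hom))

end snd

variable {G X : Over (Spec (CommRingCat.of k))} [GrpObj G] (a : AlgGrp.Action G X)

/-- transitivity on points: any two points are related by a point of `G ⊗ X` -/
theorem exists_act_snd (hΦ : Surjective (lift a.act (snd G X)).left) (x y : X.left) :
    ∃ w : (G ⊗ X).left, a.act.left.base w = y ∧ (snd G X).left.base w = x := by
  obtain ⟨t, ht1, ht2⟩ := Scheme.Pullback.exists_preimage_pullback (f := X.hom) (g := X.hom) y x
    (Subsingleton.elim _ _)
  obtain ⟨w, hw⟩ := hΦ.surj t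
  refine ⟨w, ?_, ?_⟩
  · have h1 : a.act = lift a.act (snd G X) ≫ fst X X := (lift_fst _ _).symm
    rw [h1, Over.comp_left, Scheme.Hom.comp_apply, hw]
    exact ht1
  · have h1 : snd G X = lift a.act (snd G X) ≫ snd X X := (lift_snd _ _).symm
    rw [h1, Over.comp_left, Scheme.Hom.comp_apply, hw]
    exact ht2

end Groth.Agent.Lib.Helper24.NFT
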