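import Mathlib
import Groth.Agent.Lib.Helper24.NFT.Field

/-!
# The set `C • A` for a set `C` of points of the group and a set `A` of points of the space
-/

set_option autoImplicit false
universe u

open CategoryTheory MonoidalCategory CartesianMonoidalCategory MonObj GrpObj AlgebraicGeometry Limits

namespace Groth.Agent.Lib.Helper24.NFT

open Groth.Agent.Lib.Helper4.ActShear Groth.Agent.Lib.Helper4.ActShear2

section general

variable {S : Scheme.{u}} {G X : Over S} [GrpObj G] (a : AlgGrp.Action G X)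

/-- the image under the action of the points of `G ×_S X` lying over `C` and `A` -/
def smulSet (C : Set G.left) (A : Set X.left) : Set X.left :=
  a.act.left.base '' {z | (fst G X).left.base z ∈ C ∧ (snd G X).left.base z ∈ A}

theorem smulSet_mono {C C' : Set G.left} {A A' : Set X.left} (hC : C ⊆ C') (hA : A ⊆ A') :
    smulSet a C A ⊆ smulSet a C' A' := by
  rintro _ ⟨z, ⟨h1, h2⟩, rfl⟩
  exact ⟨z, ⟨hC h1, hA h2⟩, rfl⟩

/-- membership from a pair of `T`-valued points -/
theorem smul_mem_smulSet {T : Over S} (g : T ⟶ G) (x : T ⟶ X) (t : T.left) {C : Set G.left}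
    {A : Set X.left} (hg : g.left.base t ∈ C) (hx : x.left.base t ∈ A) :
    (smul a g x).left.base t ∈ smulSet a C A := by
  refine ⟨(lift g x).left.base t, ⟨?_, ?_⟩, ?_⟩
  · rw [← Scheme.Hom.comp_apply, ← Over.comp_left, lift_fst]; exact hg
  · rw [← Scheme.Hom.comp_apply, ← Over.comp_left, lift_snd]; exact hx
  · rw [← Scheme.Hom.comp_apply, ← Over.comp_left]; rfl

/-- every element of `C • A` comes from a pair of points with values in a residue field -/
theorem exists_of_mem_smulSet {C : Set G.left} {A : Set X.left} {v : X.left}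
    (hv : v ∈ smulSet a C A) :
    ∃ w : (G ⊗ X).left, (fst G X).left.base w ∈ C ∧ (snd G X).left.base w ∈ A ∧
      a.act.left.base w = v := by
  obtain ⟨w, ⟨h1, h2⟩, h3⟩ := hv
  exact ⟨w, h1, h2, h3⟩

end general

variable {k : Type u} [Field k] {G X : Over (Spec (CommRingCat.of k))} [GrpObj G]
  (a : AlgGrp.Action G X)

instance : Subsingleton ↥(𝟙_ (Over (Spec (CommRingCat.of k)))).left :=
  inferInstanceAs (Subsingleton (PrimeSpectrum k))

theorem toUnit_apply (T : Over (Spec (CommRingCat.of k))) (t : T.left)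
    (pt : ↥(𝟙_ (Over (Spec (CommRingCat.of k)))).left) : (toUnit T).left.base t = pt :=
  Subsingleton.elim _ _

theorem subset_smulSet (pt : ↥(𝟙_ (Over (Spec (CommRingCat.of k)))).left) {C : Set G.left}
    (he : η[G].left.base pt ∈ C) (A : Set X.left) : A ⊆ smulSet a C A := by
  intro x hx
  have h := smul_mem_smulSet a (toUnit X ≫ η[G]) (𝟙 X) x (C := C) (A := A) (by
    rw [Over.comp_left, Scheme.Hom.comp_apply, toUnit_apply X x pt]; exact he) hx
  rw [one_smul'] at h
  exact h

/-- `C • U` is open for every open `U` -/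
theorem isOpen_smulSet (C : Set G.left) (U : X.left.Opens) :
    IsOpen (smulSet a C (U : Set X.left)) := by
  rw [isOpen_iff_forall_mem_open]
  intro v hv
  obtain ⟨w, hw1, hw2, hw3⟩ := exists_of_mem_smulSet a hv
  let T := resT (G ⊗ X) w
  let wT : T ⟶ G ⊗ X := resPt _ w
  let o : T.left := resO (G ⊗ X) w
  have ho : wT.left.base o = w := resPt_resO _ w
  haveI : Subsingleton T.left :=
    inferInstanceAs (Subsingleton (PrimeSpectrum ((G ⊗ X).left.residueField w)))
  let g : T ⟶ G := wT ≫ fst G X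
  let u : T ⟶ X := wT ≫ snd G X
  have hsm : smul a g u = wT ≫ a.act := by
    unfold smul
    rw [← comp_lift_assoc, lift_fst_snd, Category.id_comp]
  let p := (snd T X).left
  let N : Set (T ⊗ X).left := trT a g '' (p.base ⁻¹' (U : Set X.left))
  have hN : IsOpen N := (trT a g).isOpenMap _ (U.2.preimage p.continuous)
  refine ⟨p.base '' N, ?_, p.isOpenMap _ hN, ?_⟩
  · rintro _ ⟨_, ⟨z, hz, rfl⟩, rfl⟩
    have h1 : p.base (trT a g z) = ((g ⊗ₘ 𝟙 X) ≫ a.act).left.base z := by
      rw [trT_apply, ← Scheme.Hom.comp_apply, ← Over.comp_left, ← actT_eq]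
    rw [h1, Over.comp_left, Scheme.Hom.comp_apply]
    refine ⟨(g ⊗ₘ 𝟙 X).left.base z, ⟨?_, ?_⟩, rfl⟩
    · rw [← Scheme.Hom.comp_apply, ← Over.comp_left, tensorHom_fst, Over.comp_left,
        Scheme.Hom.comp_apply, Subsingleton.elim ((fst T X).left.base z) o, Over.comp_left,
        Scheme.Hom.comp_apply, ho]
      exact hw1
    · rw [← Scheme.Hom.comp_apply, ← Over.comp_left, tensorHom_snd, Category.comp_id]
      exact hz
  · refine ⟨trT a g (ptOf u o), ⟨ptOf u o, ?_, rfl⟩, ?_⟩
    · change p.base (ptOf u o) ∈ (U : Set X.left)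
      rw [snd_ptOf, Over.comp_left, Scheme.Hom.comp_apply, ho]
      exact hw2
    · rw [trT_ptOf, snd_ptOf, hsm, Over.comp_left, Scheme.Hom.comp_apply, ho, hw3]

/-- if `h⁻¹ ∈ C` and `h • x ∈ A` for a rational point `x`, then `x ∈ C • A` -/
theorem mem_smulSet_of_inv (x : 𝟙_ (Over (Spec (CommRingCat.of k))) ⟶ X)
    (pt : ↥(𝟙_ (Over (Spec (CommRingCat.of k)))).left) {C : Set G.left} {A : Set X.left}
    (h : G.left) (h1 : ι[G].left.base h ∈ C) (h2 : (a.orbitMap x).left.base h ∈ A) :
    x.left.base pt ∈ smulSet a C A := by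
  have h3 := smul_mem_smulSet a ι[G] (a.orbitMap x) h h1 h2
  have h4 : smul a ι[G] (a.orbitMap x) = toUnit G ≫ x := by
    have e1 : a.orbitMap x = smul a (𝟙 G) (toUnit G ≫ x) := by
      have := AlgGrp.Action.comp_orbitMap a (𝟙 G) x
      rw [Category.id_comp] at this
      exact this
    have e2 := inv_smul_smul a (𝟙 G) (toUnit G ≫ x)
    rw [Category.id_comp, ← e1] at e2
    exact e2
  rw [h4, Over.comp_left, Scheme.Hom.comp_apply, toUnit_apply G h pt] at h3
  exact h3

end Groth.Agent.Lib.Helper24.NFT
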