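import Mathlib
import Groth.Prelude.Def_ActBC
import Groth.Agent.Lib.Helper24.NFT.SmulSet

/-!
# Base change of `C • A`, and rational points after base change
-/

set_option autoImplicit false
universe u

open CategoryTheory MonoidalCategory CartesianMonoidalCategory MonObj GrpObj AlgebraicGeometry Limits

namespace Groth.Agent.Lib.Helper24.NFT

section general

variable {S S' : Scheme.{u}} (g : S' ⟶ S) {G X : Over S} [GrpObj G] (a : AlgGrp.Action G X)

/-- the comparison `G' ×_{S'} X' ⟶ G ×_S X` -/
noncomputable def bcθ (G X : Over S) : (Red.bc g G ⊗ Red.bc g X).left ⟶ (G ⊗ X).left :=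
  (Functor.LaxMonoidal.μ (Over.pullback g) G X).left ≫ pullback.fst (G ⊗ X).hom g

omit [GrpObj G] in
theorem bcθ_fst : bcθ g G X ≫ (fst G X).left =
    (fst (Red.bc g G) (Red.bc g X)).left ≫ pullback.fst G.hom g := by
  unfold bcθ
  rw [Category.assoc]
  exact ActBC.μ_left_fst_fst g G X

omit [GrpObj G] in
theorem bcθ_snd : bcθ g G X ≫ (snd G X).left =
    (snd (Red.bc g G) (Red.bc g X)).left ≫ pullback.fst X.hom g := by
  unfold bcθ
  rw [Category.assoc]
  exact ActBC.μ_left_fst_snd g G X

theorem bcθ_act : bcθ g G X ≫ a.act.left = (a.bc g).act.left ≫ pullback.fst X.hom g := by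
  unfold bcθ
  rw [AlgGrp.Action.bc_act, Over.comp_left, Category.assoc, Category.assoc,
    ActBC.pullback_map_left_fst]

theorem image_smulSet_bc_subset (C' : Set (Red.bc g G).left) (A' : Set (Red.bc g X).left) :
    (pullback.fst X.hom g).base '' smulSet (a.bc g) C' A' ⊆
      smulSet a ((pullback.fst G.hom g).base '' C') ((pullback.fst X.hom g).base '' A') := by
  rintro _ ⟨_, ⟨w, ⟨h1, h2⟩, rfl⟩, rfl⟩
  refine ⟨(bcθ g G X).base w, ⟨?_, ?_⟩, ?_⟩
  · rw [← Scheme.Hom.comp_apply, bcθ_fst, Scheme.Hom.comp_apply]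
    exact ⟨_, h1, rfl⟩
  · rw [← Scheme.Hom.comp_apply, bcθ_snd, Scheme.Hom.comp_apply]
    exact ⟨_, h2, rfl⟩
  · rw [← Scheme.Hom.comp_apply, bcθ_act, Scheme.Hom.comp_apply]

/-- the unit section of the base change lies over the unit section -/
theorem bc_unit_fst : η[Red.bc g G].left ≫ pullback.fst G.hom g =
    (Functor.LaxMonoidal.ε (Over.pullback g)).left ≫
      pullback.fst (𝟙_ (Over S)).hom g ≫ η[G].left := by
  rw [Functor.obj.η_def, Over.comp_left, Category.assoc, ActBC.pullback_map_left_fst]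

end general

end Groth.Agent.Lib.Helper24.NFT

namespace Groth.Agent.Lib.Helper24.NFT

variable {k : Type u} [Field k]

instance (L : Type u) [Field L] : Subsingleton ↥(𝟙_ (Over (Spec (CommRingCat.of L)))).left :=
  inferInstanceAs (Subsingleton (PrimeSpectrum L))

/-- every point becomes rational after base change to an algebraically closed field -/
theorem exists_ratPt (Y : Over (Spec (CommRingCat.of k))) (w : Y.left) :
    ∃ (L : Type u) (_ : Field L) (_ : IsAlgClosed L) (_ : Algebra k L)
      (wt : 𝟙_ (Over (Spec (CommRingCat.of L))) ⟶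
        Red.bc (Spec.map (CommRingCat.ofHom (algebraMap k L))) Y)
      (ptL : ↥(𝟙_ (Over (Spec (CommRingCat.of L)))).left),
      (pullback.fst Y.hom (Spec.map (CommRingCat.ofHom (algebraMap k L)))).base
        (wt.left.base ptL) = w := by
  let κ := Y.left.residueField w
  let L := AlgebraicClosure κ
  let φ : CommRingCat.of k ⟶ κ := Spec.preimage (Y.left.fromSpecResidueField w ≫ Y.hom)
  have hφ : Spec.map φ = Y.left.fromSpecResidueField w ≫ Y.hom := Spec.map_preimage _
  let ψ : k →+* L := (algebraMap κ L).comp φ.hom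
  letI : Algebra k L := ψ.toAlgebra
  let wL : Spec (CommRingCat.of L) ⟶ Y.left :=
    Spec.map (CommRingCat.ofHom (algebraMap κ L)) ≫ Y.left.fromSpecResidueField w
  have hwL : wL ≫ Y.hom = Spec.map (CommRingCat.ofHom (algebraMap k L)) := by
    change (Spec.map (CommRingCat.ofHom (algebraMap κ L)) ≫ Y.left.fromSpecResidueField w) ≫
      Y.hom = Spec.map (CommRingCat.ofHom ψ)
    rw [Category.assoc, ← hφ, ← Spec.map_comp]
    rfl
  let wt : 𝟙_ (Over (Spec (CommRingCat.of L))) ⟶
      Red.bc (Spec.map (CommRingCat.ofHom (algebraMap k L))) Y :=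
    Over.homMk (pullback.lift wL (𝟙 _) (by rw [Category.id_comp]; exact hwL))
      (pullback.lift_snd _ _ _)
  have hne : Nonempty ↥(𝟙_ (Over (Spec (CommRingCat.of L)))).left :=
    inferInstanceAs (Nonempty (PrimeSpectrum L))
  obtain ⟨ptL⟩ := hne
  refine ⟨L, inferInstance, inferInstance, inferInstance, wt, ptL, ?_⟩
  rw [← Scheme.Hom.comp_apply]
  have : wt.left ≫ pullback.fst Y.hom (Spec.map (CommRingCat.ofHom (algebraMap k L))) = wL :=
    pullback.lift_fst _ _ _
  rw [this, Scheme.Hom.comp_apply]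
  exact Scheme.fromSpecResidueField_apply _ _

end Groth.Agent.Lib.Helper24.NFT
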