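import Mathlib
import Groth.Prelude.Def_ActBC
import Groth.Agent.Lib.Helper24.NFT.Field
import Groth.Agent.Lib.Helper24.HomogSep.BaseChange

/-!
# Homogeneous spaces under arbitrary group schemes over a field are pointwise irreducible

SGA3 VI_A 2.6.5 (i): if `G × X → X × X` is surjective then every point of `X` (and of every
base change of `X` to a field extension) lies on exactly one irreducible component.
-/

set_option autoImplicit false
universe u

open CategoryTheory MonoidalCategory CartesianMonoidalCategory MonObj GrpObj AlgebraicGeometry Limits

namespace Groth.Agent.Lib.Helper24.NFT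

open Groth.Agent.Lib.Helper4.ActShear Groth.Agent.Lib.Helper4.ActShear2

variable {k : Type u} [Field k] {G X : Over (Spec (CommRingCat.of k))} [GrpObj G]
  (a : AlgGrp.Action G X)

/-- any two points become translates of one another after extending the field -/
theorem uic_of_uic [IsAlgClosed k] (hΦ : Surjective (lift a.act (snd G X)).left) (x y : X.left)
    (hy : UIC y) : UIC x := by
  obtain ⟨w, hw1, hw2⟩ := exists_act_snd a hΦ x y
  let T := resT (G ⊗ X) w
  let wT : T ⟶ G ⊗ X := resPt _ w
  let o : T.left := resO (G ⊗ X) w
  have ho : wT.left.base o = w := resPt_resO _ w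
  let g : T ⟶ G := wT ≫ fst G X
  let xT : T ⟶ X := wT ≫ snd G X
  have hsm : smul a g xT = wT ≫ a.act := by
    unfold smul
    rw [← comp_lift_assoc, lift_fst_snd, Category.id_comp]
  have h1 : (snd T X).left.base (ptOf xT o) = x := by
    rw [snd_ptOf, Over.comp_left, Scheme.Hom.comp_apply, ho, hw2]
  have h2 : (snd T X).left.base (ptOf (smul a g xT) o) = y := by
    rw [snd_ptOf, hsm, Over.comp_left, Scheme.Hom.comp_apply, ho, hw1]
  rw [← h1, ← uic_iff_proj (snd T X).left, ← uic_homeomorph_iff (trT a g), trT_ptOf,
    uic_iff_proj (snd T X).left, h2]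
  exact hy

/-- over an algebraically closed field, every point of a homogeneous space lies on a unique
irreducible component -/
theorem uic_of_isAlgClosed [IsAlgClosed k] (hΦ : Surjective (lift a.act (snd G X)).left)
    (x : X.left) : UIC x := by
  obtain ⟨ξ, -, hξ⟩ := exists_generic_specializes x
  exact uic_of_uic a hΦ x ξ
    (uic_of_isGenericPoint (irreducibleComponent_mem_irreducibleComponents x) hξ)

/-- base change to an algebraically closed field -/
theorem uic_bc (hΦ : Surjective (lift a.act (snd G X)).left) (Ω : Type u) [Field Ω]
    [IsAlgClosed Ω] (g : Spec (CommRingCat.of Ω) ⟶ Spec (CommRingCat.of k))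
    (z : ↥(pullback X.hom g)) : UIC z :=
  uic_of_isAlgClosed (a.bc g) (Groth.Agent.Lib.Helper24.HomogSep.surjective_bc g a hΦ) z

section tower

variable (Y : Scheme.{u}) (f : Y ⟶ Spec (CommRingCat.of k))
  (K L : Type u) [Field K] [Field L] [Algebra k K] [Algebra k L] [Algebra K L]
  [IsScalarTower k K L]

/-- the transition map between base changes along a tower of fields -/
noncomputable def bcTower :
    pullback f (Spec.map (CommRingCat.ofHom (algebraMap k L))) ⟶
      pullback f (Spec.map (CommRingCat.ofHom (algebraMap k K))) :=
  pullback.lift (pullback.fst _ _)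
    (pullback.snd _ _ ≫ Spec.map (CommRingCat.ofHom (algebraMap K L)))
    (by
      rw [Category.assoc, ← Spec.map_comp, ← CommRingCat.ofHom_comp,
        ← IsScalarTower.algebraMap_eq]
      exact pullback.condition)

theorem bcTower_fst : bcTower Y f K L ≫ pullback.fst _ _ = pullback.fst _ _ :=
  pullback.lift_fst _ _ _

theorem bcTower_snd : bcTower Y f K L ≫ pullback.snd _ _ =
    pullback.snd _ _ ≫ Spec.map (CommRingCat.ofHom (algebraMap K L)) :=
  pullback.lift_snd _ _ _

theorem isPullback_bcTower :
    IsPullback (bcTower Y f K L) (pullback.snd _ _) (pullback.snd _ _)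
      (Spec.map (CommRingCat.ofHom (algebraMap K L))) := by
  refine IsPullback.of_right ?_ (bcTower_snd Y f K L) (IsPullback.of_hasPullback f _)
  rw [bcTower_fst, ← Spec.map_comp, ← CommRingCat.ofHom_comp, ← IsScalarTower.algebraMap_eq]
  exact IsPullback.of_hasPullback f _

instance : Flat (bcTower Y f K L) :=
  MorphismProperty.of_isPullback (P := @Flat) (isPullback_bcTower Y f K L).flip inferInstance

instance : UniversallyOpen (bcTower Y f K L) :=
  MorphismProperty.of_isPullback (P := @UniversallyOpen) (isPullback_bcTower Y f K L).flip
    inferInstance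

instance : Surjective (bcTower Y f K L) :=
  haveI : Surjective (Spec.map (CommRingCat.ofHom (algebraMap K L))) := surjective_of_nonempty _
  MorphismProperty.of_isPullback (P := @Surjective) (isPullback_bcTower Y f K L).flip
    inferInstance

instance [IsAlgClosed K] : GeometricallyIrreducible (bcTower Y f K L) :=
  haveI : GeometricallyIrreducible (Spec.map (CommRingCat.ofHom (algebraMap K L))) :=
    geomIrr_of_field L _
  MorphismProperty.of_isPullback (P := @GeometricallyIrreducible)
    (isPullback_bcTower Y f K L).flip inferInstance

end tower

/-- **SGA3 VI_A 2.6.5 (i)**: every base change of a homogeneous space to a field extension is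
pointwise irreducible. -/
theorem uic_pullback (hΦ : Surjective (lift a.act (snd G X)).left) (K : Type u) [Field K]
    [Algebra k K] (z : ↥(pullback X.hom (Spec.map (CommRingCat.ofHom (algebraMap k K))))) :
    UIC z :=
  uic_of_proj (bcTower X.left X.hom K (AlgebraicClosure K))
    (fun y => uic_bc a hΦ (AlgebraicClosure K) _ y) z

/-- every point of a homogeneous space over a field lies on a unique irreducible component -/
theorem uic (hΦ : Surjective (lift a.act (snd G X)).left) (x : X.left) : UIC x := by
  haveI : Surjective (pullback.fst X.hom (Spec.map (CommRingCat.ofHom (algebraMap k k)))) :=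
    haveI : Surjective (Spec.map (CommRingCat.ofHom (algebraMap k k))) := surjective_of_nonempty _
    inferInstance
  exact uic_of_proj (pullback.fst X.hom (Spec.map (CommRingCat.ofHom (algebraMap k k))))
    (fun y => uic_pullback a hΦ k y) x

end Groth.Agent.Lib.Helper24.NFT
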