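import Mathlib
import Groth.Agent.Lib.Helper24.NFT.PtIrr

/-!
# The irreducible component through a rational point is geometrically irreducible

SGA3 VI_A 2.6.5 (iv).
-/

set_option autoImplicit false
universe u

open CategoryTheory MonoidalCategory CartesianMonoidalCategory MonObj GrpObj AlgebraicGeometry Limits

namespace Groth.Agent.Lib.Helper24.NFT

variable {k : Type u} [Field k]

section ratpt

variable {Y : Scheme.{u}} (f : Y ⟶ Spec (CommRingCat.of k))
  (x : Spec (CommRingCat.of k) ⟶ Y) (hx : x ≫ f = 𝟙 _)
  (K : Type u) [Field K] [Algebra k K]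

/-- the rational point of the base change over a rational point -/
noncomputable def ratLift : Spec (CommRingCat.of K) ⟶
    pullback f (Spec.map (CommRingCat.ofHom (algebraMap k K))) :=
  pullback.lift (Spec.map (CommRingCat.ofHom (algebraMap k K)) ≫ x) (𝟙 _)
    (by rw [Category.assoc, hx, Category.comp_id, Category.id_comp])

theorem ratLift_fst : ratLift f x hx K ≫ pullback.fst _ _ =
    Spec.map (CommRingCat.ofHom (algebraMap k K)) ≫ x := pullback.lift_fst _ _ _

theorem ratLift_snd : ratLift f x hx K ≫ pullback.snd _ _ = 𝟙 _ := pullback.lift_snd _ _ _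

theorem isPullback_ratLift :
    IsPullback (ratLift f x hx K) (Spec.map (CommRingCat.ofHom (algebraMap k K)))
      (pullback.fst f (Spec.map (CommRingCat.ofHom (algebraMap k K)))) x := by
  refine IsPullback.of_right (h₁₂ := pullback.snd f _) (h₂₂ := f)
    (v₁₃ := Spec.map (CommRingCat.ofHom (algebraMap k K))) ?_ (ratLift_fst f x hx K)
    (IsPullback.of_hasPullback f _).flip
  rw [ratLift_snd, hx]
  exact IsPullback.of_horiz_isIso ⟨by rw [Category.id_comp, Category.comp_id]⟩

include hx in
/-- the fibre of the base change over a rational point is a single point -/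
theorem eq_of_fst_eq (z z' : ↥(pullback f (Spec.map (CommRingCat.ofHom (algebraMap k K)))))
    (s : ↥(Spec (CommRingCat.of k)))
    (hz : (pullback.fst f (Spec.map (CommRingCat.ofHom (algebraMap k K)))).base z = x.base s)
    (hz' : (pullback.fst f (Spec.map (CommRingCat.ofHom (algebraMap k K)))).base z' = x.base s) :
    z = z' := by
  obtain ⟨t, ht, -⟩ := Scheme.exists_preimage_of_isPullback (isPullback_ratLift f x hx K) z s hz
  obtain ⟨t', ht', -⟩ := Scheme.exists_preimage_of_isPullback (isPullback_ratLift f x hx K) z' s hz'
  haveI : Subsingleton ↥(Spec (CommRingCat.of K)) :=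
    inferInstanceAs (Subsingleton (PrimeSpectrum K))
  rw [← ht, ← ht', Subsingleton.elim t t']

end ratpt

section closedmap

variable {Y : Scheme.{u}} (f : Y ⟶ Spec (CommRingCat.of k))

instance : IsIntegralHom
    (Spec.map (CommRingCat.ofHom (algebraMap k (AlgebraicClosure k)))) := by
  rw [IsIntegralHom.SpecMap_iff]
  exact algebraMap_isIntegral_iff.mpr inferInstance

theorem isClosedMap_fst_algebraicClosure :
    IsClosedMap (pullback.fst f
      (Spec.map (CommRingCat.ofHom (algebraMap k (AlgebraicClosure k))))).base :=
  (pullback.fst f _).isClosedMap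

end closedmap

section main

variable {G X : Over (Spec (CommRingCat.of k))} [GrpObj G] (a : AlgGrp.Action G X)

/-- the case of the algebraic closure -/
theorem isIrreducible_preimage_algebraicClosure
    (hΦ : Surjective (lift a.act (snd G X)).left)
    (x : 𝟙_ (Over (Spec (CommRingCat.of k))) ⟶ X)
    (pt : ↥(𝟙_ (Over (Spec (CommRingCat.of k)))).left) :
    IsIrreducible ((pullback.fst X.hom
      (Spec.map (CommRingCat.ofHom (algebraMap k (AlgebraicClosure k))))).base ⁻¹'
        irreducibleComponent (x.left.base pt)) := by
  set p := pullback.fst X.hom (Spec.map (CommRingCat.ofHom (algebraMap k (AlgebraicClosure k))))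
    with hp
  have hxw : x.left ≫ X.hom = 𝟙 _ := Over.w x
  -- the point over `x`
  haveI : Surjective p :=
    haveI : Surjective (Spec.map (CommRingCat.ofHom (algebraMap k (AlgebraicClosure k)))) :=
      surjective_of_nonempty _
    inferInstance
  obtain ⟨xb, hxb⟩ := p.surjective (x.left.base pt)
  have huniq : ∀ z, p.base z = x.left.base pt → z = xb := fun z hz =>
    eq_of_fst_eq X.hom x.left hxw (AlgebraicClosure k) z xb pt hz hxb
  have hU : UIC xb := uic_pullback a hΦ (AlgebraicClosure k) xb
  have hU0 : UIC (x.left.base pt) := uic a hΦ _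
  suffices h : p.base ⁻¹' irreducibleComponent (x.left.base pt) = irreducibleComponent xb by
    rw [h]; exact isIrreducible_irreducibleComponent
  apply subset_antisymm
  · -- preimage of the closure of the generic point
    obtain ⟨ξ, -, hξ⟩ := exists_generic_specializes (x.left.base pt)
    rw [← hξ.def, p.isOpenMap.preimage_closure_eq_closure_preimage p.continuous]
    apply closure_minimal _ isClosed_irreducibleComponent
    intro ζ hζ
    have hζ' : p.base ζ = ξ := hζ
    -- the component of `ζ` maps onto the component of `x`
    have hcl : IsClosed (p.base '' irreducibleComponent ζ) :=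
      isClosedMap_fst_algebraicClosure X.hom _ isClosed_irreducibleComponent
    have hsub : irreducibleComponent (x.left.base pt) ⊆ p.base '' irreducibleComponent ζ := by
      rw [← hξ.def]
      apply closure_minimal _ hcl
      rw [Set.singleton_subset_iff]
      exact ⟨ζ, mem_irreducibleComponent, hζ'⟩
    obtain ⟨z, hz, hz'⟩ := hsub (mem_irreducibleComponent (x := x.left.base pt))
    rw [huniq z hz'] at hz
    have : irreducibleComponent ζ = irreducibleComponent xb :=
      hU.eq_irreducibleComponent (irreducibleComponent_mem_irreducibleComponents ζ) hz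
    rw [← this]
    exact mem_irreducibleComponent
  · rw [← Set.image_subset_iff]
    apply hU0.subset_irreducibleComponent
      (isIrreducible_irreducibleComponent.image _ p.continuous.continuousOn)
    exact ⟨xb, mem_irreducibleComponent, hxb⟩

/-- **SGA3 VI_A 2.6.5 (iv)**: the irreducible component through a rational point is
geometrically irreducible. -/
theorem isIrreducible_preimage_component
    (hΦ : Surjective (lift a.act (snd G X)).left)
    (x : 𝟙_ (Over (Spec (CommRingCat.of k))) ⟶ X)
    (pt : ↥(𝟙_ (Over (Spec (CommRingCat.of k)))).left) (K : Type u) [Field K] [Algebra k K] :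
    IsIrreducible ((pullback.fst X.hom
      (Spec.map (CommRingCat.ofHom (algebraMap k K)))).base ⁻¹'
        irreducibleComponent (x.left.base pt)) := by
  let L := AlgebraicClosure K
  let φ : AlgebraicClosure k →ₐ[k] L := IsAlgClosed.lift
  letI : Algebra (AlgebraicClosure k) L := φ.toRingHom.toAlgebra
  haveI : IsScalarTower k (AlgebraicClosure k) L :=
    IsScalarTower.of_algebraMap_eq (fun c => (φ.commutes c).symm)
  let r₁ := bcTower X.left X.hom (AlgebraicClosure k) L
  let r₂ := bcTower X.left X.hom K L
  have h1 : IsIrreducible (r₁.base ⁻¹' ((pullback.fst X.hom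
      (Spec.map (CommRingCat.ofHom (algebraMap k (AlgebraicClosure k))))).base ⁻¹'
        irreducibleComponent (x.left.base pt))) :=
    r₁.isIrreducible_preimage r₁.isOpenMap (isIrreducible_preimage_algebraicClosure a hΦ x pt)
  have h2 : r₁.base ⁻¹' ((pullback.fst X.hom
      (Spec.map (CommRingCat.ofHom (algebraMap k (AlgebraicClosure k))))).base ⁻¹'
        irreducibleComponent (x.left.base pt)) =
      r₂.base ⁻¹' ((pullback.fst X.hom
        (Spec.map (CommRingCat.ofHom (algebraMap k K)))).base ⁻¹'
          irreducibleComponent (x.left.base pt)) := by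
    rw [← Set.preimage_comp, ← Set.preimage_comp, ← TopCat.coe_comp, ← TopCat.coe_comp,
      ← Scheme.Hom.comp_base, ← Scheme.Hom.comp_base, bcTower_fst, bcTower_fst]
  rw [h2] at h1
  have h3 := h1.image r₂.base r₂.continuous.continuousOn
  rwa [Set.image_preimage_eq _ r₂.surjective] at h3

end main

end Groth.Agent.Lib.Helper24.NFT
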