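import Mathlib

/-!
# The closure of a retrocompact open subset of a scheme consists of specializations
-/

set_option autoImplicit false
universe u

open CategoryTheory AlgebraicGeometry

namespace Groth.Agent.Lib.Helper24.NFT

/-- a prime in the closure of a basic open set has a generization in it -/
theorem exists_le_of_mem_closure_basicOpen {R : Type*} [CommRing R] (f : R) (p : PrimeSpectrum R)
    (hp : p ∈ closure ((PrimeSpectrum.zeroLocus {f})ᶜ : Set (PrimeSpectrum R))) :
    ∃ q : PrimeSpectrum R, q ≤ p ∧ f ∉ q.asIdeal := by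
  let M : Submonoid R := p.asIdeal.primeCompl ⊔ Submonoid.powers f
  have h0 : Disjoint ((⊥ : Ideal R) : Set R) (M : Set R) := by
    rw [Set.disjoint_left]
    intro z hz hzM
    have hz0 : z = 0 := hz
    subst hz0
    obtain ⟨s, hs, y, ⟨n, rfl⟩, hsy⟩ := Submonoid.mem_sup.mp hzM
    -- `D(s)` is a neighbourhood of `p` missing `D(f)`
    have hpD : p ∈ (PrimeSpectrum.basicOpen s : Set (PrimeSpectrum R)) := hs
    obtain ⟨r, hr1, hr2⟩ := mem_closure_iff.mp hp _ (PrimeSpectrum.basicOpen s).2 hpD
    have hr1' : s ∉ r.asIdeal := hr1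
    have hr2' : f ∉ r.asIdeal := by
      intro hf
      apply hr2
      rw [PrimeSpectrum.mem_zeroLocus]
      intro x hx
      rw [Set.mem_singleton_iff.mp hx]
      exact hf
    have : s * f ^ n ∈ r.asIdeal := by
      have h := hsy
      simp only at h
      rw [h]; exact r.asIdeal.zero_mem
    rcases r.isPrime.mem_or_mem this with h | h
    · exact hr1' h
    · exact hr2' (r.isPrime.mem_of_pow_mem n h)
  obtain ⟨q, hq, -, hqM⟩ := Ideal.exists_le_prime_disjoint (⊥ : Ideal R) M h0
  refine ⟨⟨q, hq⟩, ?_, ?_⟩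
  · intro z hz
    by_contra hzp
    exact Set.disjoint_left.mp hqM hz (Submonoid.mem_sup_left (show z ∈ p.asIdeal.primeCompl from hzp))
  · intro hf
    exact Set.disjoint_left.mp hqM hf (Submonoid.mem_sup_right (Submonoid.mem_powers f))

/-- a prime in the closure of a quasi-compact open set has a generization in it -/
theorem exists_specializes_of_mem_closure_affine {R : Type*} [CommRing R]
    (s : Set (PrimeSpectrum R)) (hs : IsCompact s) (hso : IsOpen s) (p : PrimeSpectrum R)
    (hp : p ∈ closure s) : ∃ q ∈ s, q ⤳ p := by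
  obtain ⟨t, rfl⟩ := PrimeSpectrum.isCompact_isOpen_iff.mp ⟨hs, hso⟩
  have h1 : (PrimeSpectrum.zeroLocus (t : Set R))ᶜ =
      ⋃ f ∈ t, ((PrimeSpectrum.zeroLocus {f})ᶜ : Set (PrimeSpectrum R)) := by
    ext r
    simp only [Set.mem_compl_iff, PrimeSpectrum.mem_zeroLocus, Set.subset_def, Set.mem_iUnion,
      Set.mem_singleton_iff, forall_eq, SetLike.mem_coe, exists_prop]
    push Not
    rfl
  rw [h1, Finset.closure_biUnion] at hp
  simp only [Set.mem_iUnion, exists_prop] at hp
  obtain ⟨f, hf, hpf⟩ := hp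
  obtain ⟨q, hq1, hq2⟩ := exists_le_of_mem_closure_basicOpen f p hpf
  refine ⟨q, ?_, (PrimeSpectrum.le_iff_specializes q p).mp hq1⟩
  rw [h1]
  simp only [Set.mem_iUnion, exists_prop]
  refine ⟨f, hf, ?_⟩
  rw [Set.mem_compl_iff, PrimeSpectrum.mem_zeroLocus]
  intro h
  exact hq2 (h (Set.mem_singleton f))

/-- a point in the closure of a retrocompact open subset of a scheme has a generization in it -/
theorem exists_specializes_of_mem_closure {X : Scheme.{u}} (U : X.Opens)
    (hU : IsRetrocompact (U : Set X)) (x : X) (hx : x ∈ closure (U : Set X)) :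
    ∃ y ∈ U, y ⤳ x := by
  obtain ⟨W, hW, hxW, -⟩ := exists_isAffineOpen_mem_and_subset (x := x) (U := ⊤) trivial
  have hc : IsCompact ((U : Set X) ∩ (W : Set X)) := hU hW.isCompact W.2
  let j := hW.fromSpec
  have hj : Set.range j.base = (W : Set X) := hW.range_fromSpec
  obtain ⟨x₀, hx₀⟩ : x ∈ Set.range j.base := by rw [hj]; exact hxW
  let s : Set (Spec Γ(X, W)) := j.base ⁻¹' (U : Set X)
  have hso : IsOpen s := U.2.preimage j.continuous
  have hemb : Topology.IsOpenEmbedding j.base := j.isOpenEmbedding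
  have hs : IsCompact s := by
    have h1 : j.base '' s = (U : Set X) ∩ (W : Set X) := by
      rw [Set.image_preimage_eq_inter_range, hj]
    rw [hemb.isEmbedding.isCompact_iff, h1]
    exact hc
  have hx₀s : x₀ ∈ closure s := by
    rw [← hemb.isOpenMap.preimage_closure_eq_closure_preimage j.continuous]
    change j.base x₀ ∈ closure (U : Set X)
    rw [hx₀]; exact hx
  obtain ⟨q, hq, hqsp⟩ := exists_specializes_of_mem_closure_affine s hs hso x₀ hx₀s
  refine ⟨j.base q, hq, ?_⟩
  rw [← hx₀]
  exact hqsp.map j.continuous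

end Groth.Agent.Lib.Helper24.NFT
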