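import Mathlib
import Groth.Agent.Lib.Helper24.NFT.PtIrr
import Groth.Agent.Lib.Helper24.NFT.SmulSet
import Groth.Agent.Lib.Helper24.HomogSep.FieldCase

/-!
# Orbits of the unit component are dense in irreducible components (algebraically closed field)
-/

set_option autoImplicit false
universe u

open CategoryTheory MonoidalCategory CartesianMonoidalCategory MonObj GrpObj AlgebraicGeometry Limits

namespace Groth.Agent.Lib.Helper24.NFT

open Groth.Agent.Lib.Helper4.ActShear Groth.Agent.Lib.Helper4.ActShear2

section general

variable {S : Scheme.{u}} (G : Over S) [GrpObj G]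

/-- `(x, y) ↦ (x y⁻¹, y)` is a right inverse of `(g, h) ↦ (g h, h)` -/
theorem selfAct_rightInv :
    lift (lift (fst G G) (snd G G ≫ ι[G]) ≫ μ[G]) (snd G G) ≫
      lift (selfAct G).act (snd G G) = 𝟙 _ := by
  apply CartesianMonoidalCategory.hom_ext
  · rw [Category.assoc, lift_fst, Category.id_comp]
    change _ ≫ μ[G] = _
    rw [← Hom.mul_def, ← Hom.mul_def, ← Hom.inv_def, inv_mul_cancel_right]
  · rw [Category.assoc, lift_snd, lift_snd, Category.id_comp]

theorem surjective_selfAct : Surjective (lift (selfAct G).act (snd G G)).left := by
  refine ⟨fun t => ⟨(lift (lift (fst G G) (snd G G ≫ ι[G]) ≫ μ[G]) (snd G G)).left.base t, ?_⟩⟩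
  rw [← Scheme.Hom.comp_apply, ← Over.comp_left, selfAct_rightInv]
  rfl

end general

variable {k : Type u} [Field k] {G X : Over (Spec (CommRingCat.of k))} [GrpObj G]
  (a : AlgGrp.Action G X)

/-- points of a group scheme over a field lie on a unique irreducible component -/
theorem uic_grp (g : G.left) : UIC g := uic (selfAct G) (surjective_selfAct G) g

/-- **Density of the orbits of the unit component** (algebraically closed base field, rational
point): the closure of the orbit of `y` under the irreducible component of the unit contains the
irreducible component of `y`. -/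
theorem subset_closure_orbit [IsAlgClosed k] (hΦ : Surjective (lift a.act (snd G X)).left)
    (y : 𝟙_ (Over (Spec (CommRingCat.of k))) ⟶ X)
    (pt : ↥(𝟙_ (Over (Spec (CommRingCat.of k)))).left) :
    irreducibleComponent (y.left.base pt) ⊆
      closure ((a.orbitMap y).left.base '' irreducibleComponent (η[G].left.base pt)) := by
  set y₀ := y.left.base pt with hy₀
  set e₀ := η[G].left.base pt with he₀
  set π := (a.orbitMap y).left with hπ
  -- a point of `G` mapping to the generic point of the component of `y₀`
  obtain ⟨ζ, -, hζ⟩ := exists_generic_specializes y₀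
  obtain ⟨gm, hgm⟩ := (Groth.Agent.Lib.Helper24.HomogSep.surjective_orbitMap a hΦ y).surj ζ
  -- make `gm` rational
  let T := resT G gm
  let d : T ⟶ G := resPt G gm
  let o : T.left := resO G gm
  have ho : d.left.base o = gm := resPt_resO G gm
  let q := (snd T G).left
  let p := (snd T X).left
  let πT := (T ◁ a.orbitMap y).left
  have sq : IsPullback πT q p π :=
    Groth.Agent.Lib.Helper4.MaxOpenGrp.isPullback_whiskerLeft T G X (a.orbitMap y)
  -- the rational points upstairs
  let e' : (T ⊗ G).left := ptOf (toUnit T ≫ η[G]) o
  let d' : (T ⊗ G).left := ptOf d o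
  let y' : (T ⊗ X).left := ptOf (toUnit T ≫ y) o
  have hqe : q.base e' = e₀ := by
    rw [snd_ptOf, Over.comp_left, Scheme.Hom.comp_apply, toUnit_apply T o pt]
  have hqd : q.base d' = gm := by rw [snd_ptOf, ho]
  have hpy : p.base y' = y₀ := by
    rw [snd_ptOf, Over.comp_left, Scheme.Hom.comp_apply, toUnit_apply T o pt]
  have hπe : πT.base e' = y' := by
    change (T ◁ a.orbitMap y).left.base (ptOf _ o) = _
    rw [whiskerLeft_ptOf, unit_comp_orbitMap]
  have hle : trT (selfAct G) d e' = d' := trT_unit d o
  -- pointwise irreducibility
  have hUe' : UIC e' := (uic_iff_proj q).mpr (uic_grp _)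
  have hUd' : UIC d' := (uic_iff_proj q).mpr (uic_grp _)
  have hUy' : UIC y' := (uic_iff_proj p).mpr (uic a hΦ _)
  -- components upstairs are preimages
  have hE : q.base ⁻¹' irreducibleComponent e₀ = irreducibleComponent e' := by
    rw [← hqe]; exact preimage_irreducibleComponent_proj q hUe'
  have hD : q.base ⁻¹' irreducibleComponent gm = irreducibleComponent d' := by
    rw [← hqd]; exact preimage_irreducibleComponent_proj q hUd'
  have hZ : p.base ⁻¹' irreducibleComponent y₀ = irreducibleComponent y' := by
    rw [← hpy]; exact preimage_irreducibleComponent_proj p hUy'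
  -- translation maps the component of the unit to the component of `d'`
  have hlE : trT (selfAct G) d '' irreducibleComponent e' = irreducibleComponent d' := by
    rw [image_irreducibleComponent_of_homeomorph _ hUe', hle]
  -- images of preimages
  have himg : ∀ A : Set G.left, πT.base '' (q.base ⁻¹' A) = p.base ⁻¹' (π.base '' A) :=
    fun A => Scheme.image_preimage_eq_of_isPullback sq.flip A
  -- step 3: the image of the component of `d'` is dense in the component of `y'`
  have h3 : irreducibleComponent y' ⊆ closure (πT.base '' irreducibleComponent d') := by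
    rw [← hD, himg, ← p.isOpenMap.preimage_closure_eq_closure_preimage p.continuous, ← hZ]
    apply Set.preimage_mono
    rw [← hζ.def]
    apply closure_mono
    rw [Set.singleton_subset_iff]
    exact ⟨gm, mem_irreducibleComponent, hgm⟩
  -- step 4: translate
  have h4 : πT.base '' irreducibleComponent d' =
      trT a d '' (πT.base '' irreducibleComponent e') := by
    rw [← hlE, Set.image_image, Set.image_image]
    apply Set.image_congr
    intro z _
    exact trT_orbitMap a y d z
  rw [h4, ← (trT a d).image_closure] at h3
  -- step 5
  set W := closure (πT.base '' irreducibleComponent e') with hW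
  have hWirr : IsIrreducible W :=
    (isIrreducible_irreducibleComponent.image _ πT.continuous.continuousOn).closure
  have h5 : trT a d '' W = irreducibleComponent y' :=
    subset_antisymm
      ((irreducibleComponent_mem_irreducibleComponents y').2
        (hWirr.image _ (trT a d).continuous.continuousOn) h3) h3
  have hWcomp : W ∈ irreducibleComponents (T ⊗ X).left := by
    have := image_mem_irreducibleComponents_of_homeomorph (trT a d).symm
      (irreducibleComponent_mem_irreducibleComponents y')
    rw [← h5, ← Set.image_comp] at this
    simpa using this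
  have hyW : y' ∈ W := by
    apply subset_closure
    exact ⟨e', mem_irreducibleComponent, hπe⟩
  have hWeq : W = irreducibleComponent y' := hUy'.eq_irreducibleComponent hWcomp hyW
  -- step 6: descend
  rw [hW, ← hE, himg, ← p.isOpenMap.preimage_closure_eq_closure_preimage p.continuous, ← hZ]
    at hWeq
  intro z hz
  obtain ⟨z', rfl⟩ := p.surjective z
  have : z' ∈ p.base ⁻¹' irreducibleComponent y₀ := hz
  rw [← hWeq] at this
  exact this

end Groth.Agent.Lib.Helper24.NFT
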