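import Mathlib
import Groth.Agent.Lib.Helper24.NFT.Dense

/-!
# The irreducible component of the unit, and points of `E • U` (algebraically closed field)
-/

set_option autoImplicit false
universe u

open CategoryTheory MonoidalCategory CartesianMonoidalCategory MonObj GrpObj AlgebraicGeometry Limits

namespace Groth.Agent.Lib.Helper24.NFT

open Groth.Agent.Lib.Helper4.ActShear Groth.Agent.Lib.Helper4.ActShear2

section general

variable {S : Scheme.{u}} (G : Over S) [GrpObj G]

theorem unit_comp_inv : η[G] ≫ ι[G] = η[G] := by
  have h : (η[G] : 𝟙_ (Over S) ⟶ G) = 1 := by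
    rw [Hom.one_def, toUnit_unique (toUnit _) (𝟙 _), Category.id_comp]
  rw [← Hom.inv_def, h, inv_one]

end general

variable {k : Type u} [Field k] {G X : Over (Spec (CommRingCat.of k))} [GrpObj G]
  (a : AlgGrp.Action G X)

/-- the irreducible component of the unit is stable under inversion -/
theorem inv_mem_unitComponent (pt : ↥(𝟙_ (Over (Spec (CommRingCat.of k)))).left) (h : G.left)
    (hh : h ∈ irreducibleComponent (η[G].left.base pt)) :
    ι[G].left.base h ∈ irreducibleComponent (η[G].left.base pt) := by
  have h1 : IsIrreducible (ι[G].left.base '' irreducibleComponent (η[G].left.base pt)) :=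
    isIrreducible_irreducibleComponent.image _ ι[G].left.continuous.continuousOn
  have h2 : η[G].left.base pt ∈ ι[G].left.base '' irreducibleComponent (η[G].left.base pt) := by
    refine ⟨η[G].left.base pt, mem_irreducibleComponent, ?_⟩
    rw [← Scheme.Hom.comp_apply, ← Over.comp_left, unit_comp_inv]
  exact (uic_grp _).subset_irreducibleComponent h1 h2 ⟨h, hh, rfl⟩

/-- over an algebraically closed field: a rational point whose irreducible component meets the
open `U` lies in `E • U`, `E` the irreducible component of the unit -/
theorem mem_smulSet_of_rational [IsAlgClosed k] (hΦ : Surjective (lift a.act (snd G X)).left)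
    (x : 𝟙_ (Over (Spec (CommRingCat.of k))) ⟶ X)
    (pt : ↥(𝟙_ (Over (Spec (CommRingCat.of k)))).left) (U : X.left.Opens)
    (hU : ((U : Set X.left) ∩ irreducibleComponent (x.left.base pt)).Nonempty) :
    x.left.base pt ∈ smulSet a (irreducibleComponent (η[G].left.base pt)) (U : Set X.left) := by
  obtain ⟨u, hu1, hu2⟩ := hU
  have h1 := subset_closure_orbit a hΦ x pt hu2
  obtain ⟨_, hv, ⟨h, hh, rfl⟩⟩ := mem_closure_iff.mp h1 U U.2 hu1
  have h2 := inv_mem_unitComponent pt h hh
  exact mem_smulSet_of_inv a x pt h h2 hv

end Groth.Agent.Lib.Helper24.NFT
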