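import Mathlib
import Groth.Agent.Lib.Helper24.NFT.UnitComp
import Groth.Agent.Lib.Helper24.NFT.BC
import Groth.Agent.Lib.Helper24.NFT.GeomIrrComp
import Groth.Agent.Lib.Helper24.NFT.Retro

/-!
# `C⁰ • U` is the union of the irreducible components meeting `U` (SGA3 VI_A 2.6.5 (ii))
-/

set_option autoImplicit false
universe u

open CategoryTheory MonoidalCategory CartesianMonoidalCategory MonObj GrpObj AlgebraicGeometry Limits

namespace Groth.Agent.Lib.Helper24.NFT

open Groth.Agent.Lib.Helper4.ActShear Groth.Agent.Lib.Helper4.ActShear2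

variable {k : Type u} [Field k] {G X : Over (Spec (CommRingCat.of k))} [GrpObj G]
  (a : AlgGrp.Action G X)

/-- the unit point of the base change lies over the unit point -/
theorem bc_unit_apply (pt : ↥(𝟙_ (Over (Spec (CommRingCat.of k)))).left) (L : Type u) [Field L]
    [Algebra k L] (ptL : ↥(𝟙_ (Over (Spec (CommRingCat.of L)))).left) :
    (pullback.fst G.hom (Spec.map (CommRingCat.ofHom (algebraMap k L)))).base
      (η[Red.bc (Spec.map (CommRingCat.ofHom (algebraMap k L))) G].left.base ptL) =
      η[G].left.base pt := by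
  rw [← Scheme.Hom.comp_apply, bc_unit_fst, Scheme.Hom.comp_apply, Scheme.Hom.comp_apply]
  congr 1
  exact Subsingleton.elim _ _

/-- the image of the unit component of the base change lies in the unit component -/
theorem image_unitComponent_bc_subset (pt : ↥(𝟙_ (Over (Spec (CommRingCat.of k)))).left)
    (L : Type u) [Field L] [Algebra k L] (ptL : ↥(𝟙_ (Over (Spec (CommRingCat.of L)))).left) :
    (pullback.fst G.hom (Spec.map (CommRingCat.ofHom (algebraMap k L)))).base ''
      irreducibleComponent
        (η[Red.bc (Spec.map (CommRingCat.ofHom (algebraMap k L))) G].left.base ptL) ⊆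
      irreducibleComponent (η[G].left.base pt) := by
  apply (uic_grp _).subset_irreducibleComponent
    (isIrreducible_irreducibleComponent.image _ (Scheme.Hom.continuous _).continuousOn)
  exact ⟨_, mem_irreducibleComponent, bc_unit_apply pt L ptL⟩

/-- a point whose irreducible component meets `U` lies in `C⁰ • U` -/
theorem mem_smulSet_of_component_meets (hΦ : Surjective (lift a.act (snd G X)).left)
    (pt : ↥(𝟙_ (Over (Spec (CommRingCat.of k)))).left) (U : X.left.Opens) (x : X.left)
    (hU : ((U : Set X.left) ∩ irreducibleComponent x).Nonempty) :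
    x ∈ smulSet a (irreducibleComponent (η[G].left.base pt)) (U : Set X.left) := by
  obtain ⟨L, _, _, _, xt, ptL, hxt⟩ := exists_ratPt X x
  let g := Spec.map (CommRingCat.ofHom (algebraMap k L))
  have hΦ' := Groth.Agent.Lib.Helper24.HomogSep.surjective_bc g a hΦ
  let p := pullback.fst X.hom g
  let x' : ↥(Red.bc g X).left := xt.left.base ptL
  have hxt' : p.base x' = x := hxt
  obtain ⟨u, hu1, hu2⟩ := hU
  obtain ⟨ξ, hξsp, hξ⟩ := exists_generic_specializes x
  have hξu : ξ ⤳ u := by
    rw [specializes_iff_mem_closure, hξ.def]; exact hu2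
  have hξU : ξ ∈ (U : Set X.left) := hξu.mem_open U.2 hu1
  -- lift the generization
  have hgen : GeneralizingMap p.base := Flat.generalizingMap p
  obtain ⟨ξ', hξ'sp, hξ'⟩ := hgen (a := x') (b := ξ) (by rw [hxt']; exact hξsp)
  have hUx' : UIC x' := uic (a.bc g) hΦ' x'
  have hmem : ξ' ∈ irreducibleComponent x' := by
    have h1 : x' ∈ irreducibleComponent ξ' :=
      hξ'sp.mem_closed isClosed_irreducibleComponent mem_irreducibleComponent
    rw [← hUx'.eq_irreducibleComponent (irreducibleComponent_mem_irreducibleComponents ξ') h1]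
    exact mem_irreducibleComponent
  have h1 := mem_smulSet_of_rational (a.bc g) hΦ' xt ptL (p ⁻¹ᵁ U)
    ⟨ξ', by change p.base ξ' ∈ (U : Set X.left); rw [hξ']; exact hξU, hmem⟩
  have h2 := image_smulSet_bc_subset g a _ _ ⟨x', h1, hxt'⟩
  refine smulSet_mono a (image_unitComponent_bc_subset pt L ptL) ?_ h2
  rintro _ ⟨z, hz, rfl⟩
  exact hz

/-- translating by a point of the unit component does not change the irreducible component -/
theorem snd_mem_component_act (hΦ : Surjective (lift a.act (snd G X)).left)
    (pt : ↥(𝟙_ (Over (Spec (CommRingCat.of k)))).left) (w : (G ⊗ X).left)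
    (hw : (fst G X).left.base w ∈ irreducibleComponent (η[G].left.base pt)) :
    (snd G X).left.base w ∈ irreducibleComponent (a.act.left.base w) := by
  obtain ⟨L, _, _, _, wt, ptL, hwt⟩ := exists_ratPt (G ⊗ X) w
  let g := Spec.map (CommRingCat.ofHom (algebraMap k L))
  have hΦ' := Groth.Agent.Lib.Helper24.HomogSep.surjective_bc g a hΦ
  let F := Over.pullback g
  let gt : 𝟙_ (Over (Spec (CommRingCat.of L))) ⟶ Red.bc g G := wt ≫ F.map (fst G X)
  let ut : 𝟙_ (Over (Spec (CommRingCat.of L))) ⟶ Red.bc g X := wt ≫ F.map (snd G X)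
  let vt : 𝟙_ (Over (Spec (CommRingCat.of L))) ⟶ Red.bc g X := wt ≫ F.map a.act
  have hv : lift gt ut ≫ (a.bc g).act = vt := by
    change lift (wt ≫ F.map (fst G X)) (wt ≫ F.map (snd G X)) ≫ (a.bc g).act = _
    rw [AlgGrp.Action.bc_act, ← comp_lift_assoc, Functor.Monoidal.lift_μ_assoc,
      ← Functor.map_comp, lift_fst_snd, Category.id_comp]
  -- the points
  have hq : (pullback.fst G.hom g).base (gt.left.base ptL) = (fst G X).left.base w := by
    change (pullback.fst G.hom g).base ((wt ≫ F.map (fst G X)).left.base ptL) = _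
    rw [Over.comp_left, Scheme.Hom.comp_apply, ← Scheme.Hom.comp_apply _ (pullback.fst G.hom g),
      ActBC.pullback_map_left_fst, Scheme.Hom.comp_apply, hwt]
  have hpu : (pullback.fst X.hom g).base (ut.left.base ptL) = (snd G X).left.base w := by
    change (pullback.fst X.hom g).base ((wt ≫ F.map (snd G X)).left.base ptL) = _
    rw [Over.comp_left, Scheme.Hom.comp_apply, ← Scheme.Hom.comp_apply _ (pullback.fst X.hom g),
      ActBC.pullback_map_left_fst, Scheme.Hom.comp_apply, hwt]
  have hpv : (pullback.fst X.hom g).base (vt.left.base ptL) = a.act.left.base w := by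
    change (pullback.fst X.hom g).base ((wt ≫ F.map a.act).left.base ptL) = _
    rw [Over.comp_left, Scheme.Hom.comp_apply, ← Scheme.Hom.comp_apply _ (pullback.fst X.hom g),
      ActBC.pullback_map_left_fst, Scheme.Hom.comp_apply, hwt]
  -- `gt` lies in the unit component upstairs
  let e' : ↥(Red.bc g G).left := η[Red.bc g G].left.base ptL
  have hirr := isIrreducible_preimage_component (selfAct G) (surjective_selfAct G) η[G] pt L
  have hgE : gt.left.base ptL ∈ irreducibleComponent e' := by
    apply (uic_grp e').subset_irreducibleComponent hirr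
    · change (pullback.fst G.hom g).base e' ∈ irreducibleComponent (η[G].left.base pt)
      rw [bc_unit_apply pt L ptL]; exact mem_irreducibleComponent
    · change (pullback.fst G.hom g).base (gt.left.base ptL) ∈
        irreducibleComponent (η[G].left.base pt)
      rw [hq]; exact hw
  -- the orbit of `ut` under the unit component
  let π := ((a.bc g).orbitMap ut).left
  have hπe : π.base e' = ut.left.base ptL := by
    change ((a.bc g).orbitMap ut).left.base (η[Red.bc g G].left.base ptL) = _
    rw [← Scheme.Hom.comp_apply, ← Over.comp_left]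
    have := unit_comp_orbitMap (a.bc g) (T := 𝟙_ _) ut
    rw [toUnit_unique (toUnit (𝟙_ (Over (Spec (CommRingCat.of L))))) (𝟙 _), Category.id_comp,
      Category.id_comp] at this
    rw [this]
  have hπg : π.base (gt.left.base ptL) = vt.left.base ptL := by
    change ((a.bc g).orbitMap ut).left.base (gt.left.base ptL) = _
    rw [← Scheme.Hom.comp_apply, ← Over.comp_left, AlgGrp.Action.comp_orbitMap,
      toUnit_unique (toUnit (𝟙_ (Over (Spec (CommRingCat.of L))))) (𝟙 _), Category.id_comp, hv]
  have hirr2 : IsIrreducible (π.base '' irreducibleComponent e') :=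
    isIrreducible_irreducibleComponent.image _ π.continuous.continuousOn
  have hu0 : ut.left.base ptL ∈ irreducibleComponent (vt.left.base ptL) :=
    (uic (a.bc g) hΦ' _).subset_irreducibleComponent hirr2
      ⟨_, hgE, hπg⟩ ⟨e', mem_irreducibleComponent, hπe⟩
  -- descend
  have hirr3 : IsIrreducible ((pullback.fst X.hom g).base '' irreducibleComponent (vt.left.base ptL)) :=
    isIrreducible_irreducibleComponent.image _ (Scheme.Hom.continuous _).continuousOn
  have := (uic a hΦ (a.act.left.base w)).subset_irreducibleComponent hirr3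
    ⟨_, mem_irreducibleComponent, hpv⟩ ⟨_, hu0, rfl⟩
  rwa [hpu] at this

/-- **SGA3 VI_A 2.6.5 (ii)** -/
theorem smulSet_unitComponent_eq (hΦ : Surjective (lift a.act (snd G X)).left)
    (pt : ↥(𝟙_ (Over (Spec (CommRingCat.of k)))).left) (U : X.left.Opens) :
    smulSet a (irreducibleComponent (η[G].left.base pt)) (U : Set X.left) =
      ⋃₀ {Z : Set X.left | Z ∈ irreducibleComponents ↥X.left ∧ ∃ ξ ∈ U, closure {ξ} = Z} := by
  apply subset_antisymm
  · intro v hv
    obtain ⟨w, hw1, hw2, rfl⟩ := exists_of_mem_smulSet a hv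
    have h1 := snd_mem_component_act a hΦ pt w hw1
    obtain ⟨ξ, -, hξ⟩ := exists_generic_specializes (a.act.left.base w)
    have hξu : ξ ⤳ (snd G X).left.base w := by
      rw [specializes_iff_mem_closure, hξ.def]; exact h1
    refine ⟨irreducibleComponent (a.act.left.base w),
      ⟨irreducibleComponent_mem_irreducibleComponents _, ξ, hξu.mem_open U.2 hw2, hξ.def⟩,
      mem_irreducibleComponent⟩
  · rintro x ⟨Z, ⟨hZ, ξ, hξU, hξZ⟩, hxZ⟩
    have hZx : Z = irreducibleComponent x := (uic a hΦ x).eq_irreducibleComponent hZ hxZ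
    apply mem_smulSet_of_component_meets a hΦ pt U x
    refine ⟨ξ, hξU, ?_⟩
    rw [← hZx, ← hξZ]
    exact subset_closure (Set.mem_singleton ξ)

theorem smulSet_unitComponent_eq_closure (hΦ : Surjective (lift a.act (snd G X)).left)
    (pt : ↥(𝟙_ (Over (Spec (CommRingCat.of k)))).left) (U : X.left.Opens)
    (hU : IsRetrocompact (U : Set X.left)) :
    smulSet a (irreducibleComponent (η[G].left.base pt)) (U : Set X.left) =
      closure (U : Set X.left) := by
  apply subset_antisymm
  · rw [smulSet_unitComponent_eq a hΦ pt U]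
    rintro x ⟨Z, ⟨-, ξ, hξU, rfl⟩, hxZ⟩
    exact closure_mono (Set.singleton_subset_iff.mpr hξU) hxZ
  · intro x hx
    obtain ⟨y, hyU, hyx⟩ := exists_specializes_of_mem_closure U hU x hx
    apply mem_smulSet_of_component_meets a hΦ pt U x
    refine ⟨y, hyU, ?_⟩
    have h1 : x ∈ irreducibleComponent y :=
      hyx.mem_closed isClosed_irreducibleComponent mem_irreducibleComponent
    rw [← (uic a hΦ x).eq_irreducibleComponent (irreducibleComponent_mem_irreducibleComponents y) h1]
    exact mem_irreducibleComponent

end Groth.Agent.Lib.Helper24.NFT
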