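import Mathlib
import Groth.Agent.Lib.Helper24.NFT.OpenComp

/-!
# Quasi-compactness: irreducible homogeneous spaces and the unit component
(SGA3 VI_A 2.6.5 (iii))
-/

set_option autoImplicit false
universe u

open CategoryTheory MonoidalCategory CartesianMonoidalCategory MonObj GrpObj AlgebraicGeometry Limits

namespace Groth.Agent.Lib.Helper24.NFT

open Groth.Agent.Lib.Helper4.ActShear Groth.Agent.Lib.Helper4.ActShear2

variable {k : Type u} [Field k] {G X : Over (Spec (CommRingCat.of k))} [GrpObj G]
  (a : AlgGrp.Action G X)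

/-- refinement of `mem_smulSet_of_rational`: the group element can be taken in a given open
neighbourhood of the unit -/
theorem mem_smulSet_of_rational' [IsAlgClosed k] (hΦ : Surjective (lift a.act (snd G X)).left)
    (x : 𝟙_ (Over (Spec (CommRingCat.of k))) ⟶ X)
    (pt : ↥(𝟙_ (Over (Spec (CommRingCat.of k)))).left) (U : X.left.Opens)
    (hU : ((U : Set X.left) ∩ irreducibleComponent (x.left.base pt)).Nonempty)
    (W : G.left.Opens) (hW : η[G].left.base pt ∈ W) :
    x.left.base pt ∈
      smulSet a (irreducibleComponent (η[G].left.base pt) ∩ (W : Set G.left))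
        (U : Set X.left) := by
  obtain ⟨u, hu1, hu2⟩ := hU
  have h1 := subset_closure_orbit a hΦ x pt hu2
  obtain ⟨_, hv, ⟨h₀, hh₀, rfl⟩⟩ := mem_closure_iff.mp h1 U U.2 hu1
  -- two nonempty open subsets of the unit component
  have hirr : IsPreirreducible (irreducibleComponent (η[G].left.base pt)) :=
    isIrreducible_irreducibleComponent.isPreirreducible
  obtain ⟨h, hhE, hh1, hh2⟩ := hirr ((a.orbitMap x).left.base ⁻¹' (U : Set X.left))
    (ι[G].left.base ⁻¹' (W : Set G.left)) (U.2.preimage (a.orbitMap x).left.continuous)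
    (W.2.preimage ι[G].left.continuous) ⟨h₀, hh₀, hv⟩
    ⟨η[G].left.base pt, mem_irreducibleComponent, by
      change ι[G].left.base (η[G].left.base pt) ∈ (W : Set G.left)
      rw [← Scheme.Hom.comp_apply, ← Over.comp_left, unit_comp_inv]; exact hW⟩
  exact mem_smulSet_of_inv a x pt h ⟨inv_mem_unitComponent pt h hhE, hh2⟩ hh1

/-- refinement of `mem_smulSet_of_component_meets` -/
theorem mem_smulSet_of_component_meets' (hΦ : Surjective (lift a.act (snd G X)).left)
    (pt : ↥(𝟙_ (Over (Spec (CommRingCat.of k)))).left) (U : X.left.Opens) (x : X.left)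
    (hU : ((U : Set X.left) ∩ irreducibleComponent x).Nonempty)
    (W : G.left.Opens) (hW : η[G].left.base pt ∈ W) :
    x ∈ smulSet a (irreducibleComponent (η[G].left.base pt) ∩ (W : Set G.left))
      (U : Set X.left) := by
  obtain ⟨L, _, _, _, xt, ptL, hxt⟩ := exists_ratPt X x
  let g := Spec.map (CommRingCat.ofHom (algebraMap k L))
  have hΦ' := Groth.Agent.Lib.Helper24.HomogSep.surjective_bc g a hΦ
  let p := pullback.fst X.hom g
  let q := pullback.fst G.hom g
  let x' : ↥(Red.bc g X).left := xt.left.base ptL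
  have hxt' : p.base x' = x := hxt
  obtain ⟨u, hu1, hu2⟩ := hU
  obtain ⟨ξ, hξsp, hξ⟩ := exists_generic_specializes x
  have hξu : ξ ⤳ u := by
    rw [specializes_iff_mem_closure, hξ.def]; exact hu2
  have hξU : ξ ∈ (U : Set X.left) := hξu.mem_open U.2 hu1
  have hgen : GeneralizingMap p.base := Flat.generalizingMap p
  obtain ⟨ξ', hξ'sp, hξ'⟩ := hgen (a := x') (b := ξ) (by rw [hxt']; exact hξsp)
  have hUx' : UIC x' := uic (a.bc g) hΦ' x'
  have hmem : ξ' ∈ irreducibleComponent x' := by
    have h1 : x' ∈ irreducibleComponent ξ' :=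
      hξ'sp.mem_closed isClosed_irreducibleComponent mem_irreducibleComponent
    rw [← hUx'.eq_irreducibleComponent (irreducibleComponent_mem_irreducibleComponents ξ') h1]
    exact mem_irreducibleComponent
  have h1 := mem_smulSet_of_rational' (a.bc g) hΦ' xt ptL (p ⁻¹ᵁ U)
    ⟨ξ', by change p.base ξ' ∈ (U : Set X.left); rw [hξ']; exact hξU, hmem⟩ (q ⁻¹ᵁ W)
    (by change q.base _ ∈ (W : Set G.left); rw [bc_unit_apply pt L ptL]; exact hW)
  have h2 := image_smulSet_bc_subset g a _ _ ⟨x', h1, hxt'⟩
  refine smulSet_mono a ?_ ?_ h2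
  · rintro _ ⟨z, ⟨hz1, hz2⟩, rfl⟩
    exact ⟨image_unitComponent_bc_subset pt L ptL ⟨z, hz1, rfl⟩, hz2⟩
  · rintro _ ⟨z, hz, rfl⟩
    exact hz

/-- a box of affine opens in `G ×_k X` is quasi-compact -/
theorem isCompact_box (W : G.left.Opens) (U : X.left.Opens) (hW : IsAffineOpen W)
    (hU : IsAffineOpen U) :
    IsCompact ((fst G X).left.base ⁻¹' (W : Set G.left) ∩
      (snd G X).left.base ⁻¹' (U : Set X.left)) := by
  let WO : Over (Spec (CommRingCat.of k)) := Over.mk (W.ι ≫ G.hom)
  let UO : Over (Spec (CommRingCat.of k)) := Over.mk (U.ι ≫ X.hom)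
  let j₁ : WO ⟶ G := Over.homMk W.ι rfl
  let j₂ : UO ⟶ X := Over.homMk U.ι rfl
  haveI : IsAffine W.toScheme := hW
  haveI : IsAffine U.toScheme := hU
  haveI : IsAffine (WO ⊗ UO).left :=
    inferInstanceAs (IsAffine (pullback (W.ι ≫ G.hom) (U.ι ≫ X.hom)))
  have h := range_tensorHom_left j₁ j₂
  have h1 : Set.range j₁.left = (W : Set G.left) := W.range_ι
  have h2 : Set.range j₂.left = (U : Set X.left) := U.range_ι
  rw [h1, h2] at h
  rw [← h]
  exact isCompact_range (j₁ ⊗ₘ j₂).left.continuous

/-- **SGA3 VI_A 2.6.5 (iii)**: an irreducible homogeneous space is quasi-compact -/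
theorem compactSpace_of_irreducible (hΦ : Surjective (lift a.act (snd G X)).left)
    [IrreducibleSpace X.left] : CompactSpace X.left := by
  obtain ⟨x₀⟩ := (inferInstance : Nonempty X.left)
  have hne : Nonempty ↥(𝟙_ (Over (Spec (CommRingCat.of k)))).left :=
    inferInstanceAs (Nonempty (PrimeSpectrum k))
  obtain ⟨pt⟩ := hne
  obtain ⟨U, hU, hxU, -⟩ := exists_isAffineOpen_mem_and_subset (x := x₀) (U := ⊤) trivial
  obtain ⟨W, hW, heW, -⟩ :=
    exists_isAffineOpen_mem_and_subset (x := η[G].left.base pt) (U := ⊤) trivial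
  let B : Set (G ⊗ X).left := ((fst G X).left.base ⁻¹' (W : Set G.left) ∩
      (snd G X).left.base ⁻¹' (U : Set X.left)) ∩
    (fst G X).left.base ⁻¹' irreducibleComponent (η[G].left.base pt)
  have hB : IsCompact B := (isCompact_box W U hW hU).inter_right
    (isClosed_irreducibleComponent.preimage (fst G X).left.continuous)
  have hcov : (Set.univ : Set X.left) ⊆ a.act.left.base '' B := by
    intro x _
    have hx : ((U : Set X.left) ∩ irreducibleComponent x).Nonempty := by
      refine ⟨x₀, hxU, ?_⟩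
      have : irreducibleComponent x = Set.univ :=
        (irreducibleComponent_mem_irreducibleComponents x).2
          (IrreducibleSpace.isIrreducible_univ _) (Set.subset_univ _) |>.antisymm
            (Set.subset_univ _) |>.symm ▸ rfl
      rw [this]; trivial
    obtain ⟨w, ⟨hw1, hw1'⟩, hw2, rfl⟩ :=
      exists_of_mem_smulSet a (mem_smulSet_of_component_meets' a hΦ pt U x hx W heW)
    exact ⟨w, ⟨⟨hw1', hw2⟩, hw1⟩, rfl⟩
  constructor
  exact (hB.image a.act.left.continuous).of_isClosed_subset isClosed_univ hcov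

end Groth.Agent.Lib.Helper24.NFT
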