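import Mathlib
import Groth.Agent.Lib.Helper24.NFT.Compact
import Groth.Agent.Lib.Helper4.GrpFieldSep

/-!
# Connected components of quasi-separated homogeneous spaces are irreducible; the unit
component of a group scheme over a field is irreducible and quasi-compact
(SGA3 VI_A 2.6.6, 2.6.7; Stacks 0B7Q, 0B7R)
-/

set_option autoImplicit false
universe u

open CategoryTheory MonoidalCategory CartesianMonoidalCategory MonObj GrpObj AlgebraicGeometry Limits

namespace Groth.Agent.Lib.Helper24.NFT

open Groth.Agent.Lib.Helper4.ActShear Groth.Agent.Lib.Helper4.ActShear2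

variable {k : Type u} [Field k] {G X : Over (Spec (CommRingCat.of k))} [GrpObj G]
  (a : AlgGrp.Action G X)

/-- the unit component is stable under multiplication -/
theorem mul_mem_unitComponent (pt : ↥(𝟙_ (Over (Spec (CommRingCat.of k)))).left)
    (w : (G ⊗ G).left)
    (h1 : (fst G G).left.base w ∈ irreducibleComponent (η[G].left.base pt))
    (h2 : (snd G G).left.base w ∈ irreducibleComponent (η[G].left.base pt)) :
    μ[G].left.base w ∈ irreducibleComponent (η[G].left.base pt) := by
  have h3 := snd_mem_component_act (selfAct G) (surjective_selfAct G) pt w h1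
  have h4 : irreducibleComponent ((selfAct G).act.left.base w) =
      irreducibleComponent (η[G].left.base pt) :=
    (uic_grp _).eq (irreducibleComponent_mem_irreducibleComponents _)
      (irreducibleComponent_mem_irreducibleComponents _) h3 h2
  rw [← h4]
  exact mem_irreducibleComponent

/-- the irreducible component of the unit is quasi-compact -/
theorem isCompact_unitComponent (pt : ↥(𝟙_ (Over (Spec (CommRingCat.of k)))).left) :
    IsCompact (irreducibleComponent (η[G].left.base pt)) := by
  set E := irreducibleComponent (η[G].left.base pt) with hE
  obtain ⟨W, hW, heW, -⟩ :=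
    exists_isAffineOpen_mem_and_subset (x := η[G].left.base pt) (U := ⊤) trivial
  let B : Set (G ⊗ G).left := ((fst G G).left.base ⁻¹' (W : Set G.left) ∩
      (snd G G).left.base ⁻¹' (W : Set G.left)) ∩
    ((fst G G).left.base ⁻¹' E ∩ (snd G G).left.base ⁻¹' E)
  have hB : IsCompact B := (isCompact_box W W hW hW).inter_right
    ((isClosed_irreducibleComponent.preimage (fst G G).left.continuous).inter
      (isClosed_irreducibleComponent.preimage (snd G G).left.continuous))
  have hEB : E = μ[G].left.base '' B := by
    apply subset_antisymm
    · intro g hg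
      have hgE : irreducibleComponent g = E :=
        ((uic_grp g).eq_irreducibleComponent (irreducibleComponent_mem_irreducibleComponents _)
          hg).symm
      have hmeet : ((W : Set G.left) ∩ irreducibleComponent g).Nonempty :=
        ⟨η[G].left.base pt, heW, by rw [hgE]; exact mem_irreducibleComponent⟩
      obtain ⟨w, ⟨hw1, hw1'⟩, hw2, hw3⟩ := exists_of_mem_smulSet (selfAct G)
        (mem_smulSet_of_component_meets' (selfAct G) (surjective_selfAct G) pt W g hmeet W heW)
      have hw4 := snd_mem_component_act (selfAct G) (surjective_selfAct G) pt w hw1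
      rw [hw3, hgE] at hw4
      exact ⟨w, ⟨⟨hw1', hw2⟩, hw1, hw4⟩, hw3⟩
    · rintro _ ⟨w, ⟨-, hw1, hw2⟩, rfl⟩
      exact mul_mem_unitComponent pt w hw1 hw2
  rw [hEB]
  exact hB.image μ[G].left.continuous

/-- **SGA3 VI_A 2.6.6**: in a quasi-separated homogeneous space, connected components are
irreducible components. -/
theorem connectedComponent_eq_irreducibleComponent [QuasiSeparatedSpace X.left]
    (hΦ : Surjective (lift a.act (snd G X)).left) (x : X.left) :
    connectedComponent x = irreducibleComponent x := by
  have hne : Nonempty ↥(𝟙_ (Over (Spec (CommRingCat.of k)))).left :=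
    inferInstanceAs (Nonempty (PrimeSpectrum k))
  obtain ⟨pt⟩ := hne
  apply subset_antisymm
  · intro y hy
    by_contra hyx
    have hxy : x ∉ irreducibleComponent y := by
      intro h
      apply hyx
      rw [← (uic a hΦ x).eq_irreducibleComponent
        (irreducibleComponent_mem_irreducibleComponents y) h]
      exact mem_irreducibleComponent
    let O : X.left.Opens := ⟨(irreducibleComponent y)ᶜ, isClosed_irreducibleComponent.isOpen_compl⟩
    obtain ⟨U, hU, hxU, hUO⟩ := exists_isAffineOpen_mem_and_subset (x := x) (U := O) hxy
    have hretro : IsRetrocompact (U : Set X.left) := by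
      intro V hVc hVo
      exact QuasiSeparatedSpace.inter_isCompact _ _ U.2 hU.isCompact hVo hVc
    have hcl := smulSet_unitComponent_eq_closure a hΦ pt U hretro
    have hclopen : IsClopen (closure (U : Set X.left)) :=
      ⟨isClosed_closure, by rw [← hcl]; exact isOpen_smulSet a _ U⟩
    have hy' : y ∈ closure (U : Set X.left) :=
      hclopen.connectedComponent_subset (subset_closure hxU) hy
    rw [← hcl, smulSet_unitComponent_eq a hΦ pt U] at hy'
    obtain ⟨Z, ⟨hZ, ξ, hξU, hξZ⟩, hyZ⟩ := hy'
    have hZy : Z = irreducibleComponent y := (uic a hΦ y).eq_irreducibleComponent hZ hyZ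
    have hξy : ξ ∈ irreducibleComponent y := by
      rw [← hZy, ← hξZ]; exact subset_closure (Set.mem_singleton ξ)
    exact hUO hξU hξy
  · exact isIrreducible_irreducibleComponent.isConnected.isPreconnected.subset_connectedComponent
      mem_irreducibleComponent

instance quasiSeparatedSpace_grp : QuasiSeparatedSpace G.left := by
  haveI : IsSeparated G.hom := Groth.Agent.Lib.Helper4.GrpFieldSep.isSeparated_of_field k G
  exact quasiSeparatedSpace_of_quasiSeparated G.hom

/-- the connected component of the unit is the irreducible component of the unit -/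
theorem connectedComponent_unit (pt : ↥(𝟙_ (Over (Spec (CommRingCat.of k)))).left) :
    connectedComponent (η[G].left.base pt) = irreducibleComponent (η[G].left.base pt) :=
  connectedComponent_eq_irreducibleComponent (selfAct G) (surjective_selfAct G) _

/-- **Stacks 0B7Q**: a connected group scheme over a field is irreducible -/
theorem irreducibleSpace_of_connectedSpace [ConnectedSpace G.left] : IrreducibleSpace G.left := by
  have hne : Nonempty ↥(𝟙_ (Over (Spec (CommRingCat.of k)))).left :=
    inferInstanceAs (Nonempty (PrimeSpectrum k))
  obtain ⟨pt⟩ := hne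
  have h1 := connectedComponent_unit (G := G) pt
  rw [PreconnectedSpace.connectedComponent_eq_univ] at h1
  rw [irreducibleSpace_def]
  change IsIrreducible (Set.univ : Set G.left)
  rw [h1]
  exact isIrreducible_irreducibleComponent

end Groth.Agent.Lib.Helper24.NFT
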