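import Mathlib

/-!
# A quasi-compact morphism hits every maximal point of the closure of its range
-/

set_option autoImplicit false
universe u

open CategoryTheory AlgebraicGeometry

namespace Groth.Agent.Lib.Helper24.NFT

/-- affine case -/
theorem mem_range_comap_of_minimal {A B : Type u} [CommRing A] [CommRing B] (φ : A →+* B)
    (p : PrimeSpectrum A) (hmin : ∀ q : PrimeSpectrum A, q ⤳ p → q = p)
    (hp : p ∈ closure (Set.range (PrimeSpectrum.comap φ))) :
    p ∈ Set.range (PrimeSpectrum.comap φ) := by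
  rw [PrimeSpectrum.closure_range_comap, PrimeSpectrum.mem_zeroLocus] at hp
  have hpmin : p.asIdeal ∈ (Ideal.comap φ ⊥).minimalPrimes := by
    refine ⟨⟨p.isPrime, hp⟩, ?_⟩
    rintro q ⟨hq, -⟩ hqp
    have : (⟨q, hq⟩ : PrimeSpectrum A) = p :=
      hmin ⟨q, hq⟩ ((PrimeSpectrum.le_iff_specializes ⟨q, hq⟩ p).mp hqp)
    rw [← this]
  obtain ⟨p', hp', -, hcomap⟩ := Ideal.exists_comap_eq_of_mem_minimalPrimes φ p.asIdeal hpmin
  exact ⟨⟨p', hp'⟩, PrimeSpectrum.ext hcomap⟩

/-- **A quasi-compact morphism hits the maximal points of the closure of its range.** -/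
theorem mem_range_of_maximal {Y X : Scheme.{u}} (f : Y ⟶ X) [QuasiCompact f] (ζ : X)
    (hmax : ∀ η : X, η ⤳ ζ → η = ζ) (hζ : ζ ∈ closure (Set.range f.base)) :
    ζ ∈ Set.range f.base := by
  obtain ⟨W, hW, hζW, -⟩ := exists_isAffineOpen_mem_and_subset (x := ζ) (U := ⊤) trivial
  have hVc : IsCompact ((f ⁻¹ᵁ W : Y.Opens) : Set Y) := f.isCompact_preimage hW.isCompact
  obtain ⟨s, hs, hV⟩ := isCompact_iff_finite_and_eq_biUnion_affineOpens.mp hVc
  -- `ζ` is in the closure of the image of one of the affine pieces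
  have h1 : ζ ∈ closure ((W : Set X) ∩ Set.range f.base) :=
    W.2.inter_closure ⟨hζW, hζ⟩
  have h2 : (W : Set X) ∩ Set.range f.base = ⋃ i ∈ s, f.base '' ((i : Y.Opens) : Set Y) := by
    ext x
    simp only [Set.mem_inter_iff, Set.mem_range, Set.mem_iUnion, Set.mem_image, exists_prop]
    constructor
    · rintro ⟨hxW, y, rfl⟩
      have hy : y ∈ (f ⁻¹ᵁ W : Y.Opens) := hxW
      rw [hV] at hy
      simp only [TopologicalSpace.Opens.mem_iSup, exists_prop] at hy
      obtain ⟨i, hi, hyi⟩ := hy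
      exact ⟨i, hi, y, hyi, rfl⟩
    · rintro ⟨i, hi, y, hyi, rfl⟩
      have hy : y ∈ (f ⁻¹ᵁ W : Y.Opens) := by
        rw [hV]
        simp only [TopologicalSpace.Opens.mem_iSup, exists_prop]
        exact ⟨i, hi, hyi⟩
      exact ⟨hy, y, rfl⟩
  rw [h2, hs.closure_biUnion] at h1
  simp only [Set.mem_iUnion, exists_prop] at h1
  obtain ⟨i, hi, hζi⟩ := h1
  have hiW : (i : Y.Opens) ≤ f ⁻¹ᵁ W := by
    rw [hV]
    exact le_iSup₂ (f := fun (j : Y.affineOpens) (_ : j ∈ s) => (j : Y.Opens)) i hi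
  -- pass to rings
  let φ := f.appLE W i hiW
  have hsq : Spec.map φ ≫ hW.fromSpec = i.2.fromSpec ≫ f :=
    IsAffineOpen.SpecMap_appLE_fromSpec f hW i.2 hiW
  have hjemb : Topology.IsOpenEmbedding hW.fromSpec.base := hW.fromSpec.isOpenEmbedding
  obtain ⟨p, hp⟩ : ζ ∈ Set.range hW.fromSpec.base := by rw [hW.range_fromSpec]; exact hζW
  have himg : f.base '' ((i : Y.Opens) : Set Y) =
      hW.fromSpec.base '' Set.range (Spec.map φ).base := by
    rw [← i.2.range_fromSpec, ← Set.range_comp, ← Set.range_comp, ← TopCat.coe_comp,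
      ← TopCat.coe_comp, ← Scheme.Hom.comp_base, ← Scheme.Hom.comp_base, hsq]
  have hpcl : p ∈ closure (Set.range (Spec.map φ).base) := by
    rw [himg, ← hp] at hζi
    have := hjemb.isOpenMap.preimage_closure_eq_closure_preimage hW.fromSpec.continuous
      (hW.fromSpec.base '' Set.range (Spec.map φ).base)
    rw [Set.preimage_image_eq _ hjemb.injective] at this
    rw [← this]
    exact hζi
  have hpmin : ∀ q : PrimeSpectrum Γ(X, W), q ⤳ p → q = p := by
    intro q hq
    apply hjemb.injective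
    rw [hp]
    apply hmax
    rw [← hp]
    exact hq.map hW.fromSpec.continuous
  obtain ⟨p', hp'⟩ := mem_range_comap_of_minimal φ.hom p hpmin hpcl
  let p'' : ↥(Spec Γ(Y, (i : Y.Opens))) := p'
  have hp'' : (Spec.map φ).base p'' = p := hp'
  have h3 : (IsAffineOpen.fromSpec i.2 ≫ f).base p'' = ζ := by
    rw [← hsq, Scheme.Hom.comp_apply, hp'', hp]
  exact ⟨(IsAffineOpen.fromSpec i.2).base p'', h3⟩

end Groth.Agent.Lib.Helper24.NFT
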