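import Mathlib
import Groth.Agent.Lib.Helper24.NFT.Conn
import Groth.Agent.Lib.Helper24.NFT.MaxPt
import Groth.Agent.Lib.Helper24.Orbit.RedSub

/-!
# The orbit of a rational point under the unit component is the whole irreducible component
(SGA3 VI_A 2.6.6)
-/

set_option autoImplicit false
universe u

open CategoryTheory MonoidalCategory CartesianMonoidalCategory MonObj GrpObj AlgebraicGeometry Limits

namespace Groth.Agent.Lib.Helper24.NFT

open Groth.Agent.Lib.Helper4.ActShear Groth.Agent.Lib.Helper4.ActShear2

section top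

variable {α : Type*} [TopologicalSpace α]

/-- the generic point of an irreducible component has no proper generization -/
theorem eq_of_specializes_generic [T0Space α] {ζ ν : α} {Z : Set α}
    (hZ : Z ∈ irreducibleComponents α) (hζ : IsGenericPoint ζ Z) (h : ν ⤳ ζ) : ν = ζ := by
  have h1 : IsIrreducible (closure {ν}) := isIrreducible_singleton.closure
  have h2 : Z ⊆ closure {ν} := by
    rw [← hζ.def]
    exact closure_minimal (Set.singleton_subset_iff.mpr (specializes_iff_mem_closure.mp h))
      isClosed_closure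
  have h3 : closure {ν} = Z := subset_antisymm (hZ.2 h1 h2) h2
  exact IsGenericPoint.eq (show IsGenericPoint ν Z from h3) hζ

end top

variable {k : Type u} [Field k] {G X : Over (Spec (CommRingCat.of k))} [GrpObj G]
  (a : AlgGrp.Action G X)

section rational

variable (x : 𝟙_ (Over (Spec (CommRingCat.of k))) ⟶ X)

/-- the fibre of `G × X → X` over a rational point is `G` -/
theorem isPullback_rational :
    IsPullback (lift (𝟙 G) (toUnit G ≫ x)).left G.hom (snd G X).left x.left := by
  have hx : x.left ≫ X.hom = 𝟙 _ := Over.w x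
  have hs1 : (lift (𝟙 G) (toUnit G ≫ x)).left ≫ (fst G X).left = 𝟙 _ := by
    rw [← Over.comp_left, lift_fst]; rfl
  have hs2 : (lift (𝟙 G) (toUnit G ≫ x)).left ≫ (snd G X).left = G.hom ≫ x.left := by
    rw [← Over.comp_left, lift_snd]; rfl
  refine IsPullback.of_right (h₁₂ := (fst G X).left) (h₂₂ := X.hom) (v₁₃ := G.hom) ?_ hs2
    (IsPullback.of_hasPullback G.hom X.hom)
  rw [hs1, hx]
  exact IsPullback.id_horiz G.hom

theorem smulSet_singleton_subset (pt : ↥(𝟙_ (Over (Spec (CommRingCat.of k)))).left)
    (C : Set G.left) : smulSet a C {x.left.base pt} ⊆ (a.orbitMap x).left.base '' C := by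
  intro v hv
  obtain ⟨w, hw1, hw2, rfl⟩ := exists_of_mem_smulSet a hv
  obtain ⟨g, hg, -⟩ := Scheme.exists_preimage_of_isPullback (isPullback_rational x) w pt hw2
  refine ⟨g, ?_, ?_⟩
  · have : (fst G X).left.base w = g := by
      rw [← hg, ← Scheme.Hom.comp_apply, ← Over.comp_left, lift_fst]; rfl
    rw [← this]; exact hw1
  · rw [← hg, ← Scheme.Hom.comp_apply, ← Over.comp_left]; rfl

theorem orbitMap_unit (pt : ↥(𝟙_ (Over (Spec (CommRingCat.of k)))).left) :
    (a.orbitMap x).left.base (η[G].left.base pt) = x.left.base pt := by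
  rw [← Scheme.Hom.comp_apply, ← Over.comp_left]
  have := unit_comp_orbitMap a (T := 𝟙_ _) x
  rw [toUnit_unique (toUnit (𝟙_ (Over (Spec (CommRingCat.of k))))) (𝟙 _), Category.id_comp,
    Category.id_comp] at this
  rw [this]

end rational

/-- the reduced closed subscheme on the unit component is quasi-compact -/
theorem compactSpace_redSub_unitComponent (pt : ↥(𝟙_ (Over (Spec (CommRingCat.of k)))).left)
    (hE : IsClosed (closure (irreducibleComponent (η[G].left.base pt)) \
      irreducibleComponent (η[G].left.base pt))) :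
    CompactSpace ↥(Groth.Agent.Lib.Helper24.Orbit.redSub
      (irreducibleComponent (η[G].left.base pt)) hE) := by
  have hemb := (Groth.Agent.Lib.Helper24.Orbit.redSubι
    (irreducibleComponent (η[G].left.base pt)) hE).isEmbedding
  rw [← isCompact_univ_iff, hemb.isCompact_iff, Set.image_univ,
    Groth.Agent.Lib.Helper24.Orbit.range_redSubι]
  exact isCompact_unitComponent pt

/-- two rational points in the same irreducible component are translates by a point of the
unit component (algebraically closed base field) -/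
theorem mem_smulSet_singleton_of_rational [IsAlgClosed k] [QuasiSeparatedSpace X.left]
    (hΦ : Surjective (lift a.act (snd G X)).left)
    (x z : 𝟙_ (Over (Spec (CommRingCat.of k))) ⟶ X)
    (pt : ↥(𝟙_ (Over (Spec (CommRingCat.of k)))).left)
    (hz : z.left.base pt ∈ irreducibleComponent (x.left.base pt)) :
    z.left.base pt ∈
      smulSet a (irreducibleComponent (η[G].left.base pt)) {x.left.base pt} := by
  set E := irreducibleComponent (η[G].left.base pt) with hEdef
  have hE : IsClosed (closure E \ E) := by
    rw [isClosed_irreducibleComponent.closure_eq, Set.diff_self]; exact isClosed_empty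
  haveI : CompactSpace ↥(Groth.Agent.Lib.Helper24.Orbit.redSub E hE) :=
    compactSpace_redSub_unitComponent pt hE
  let j := Groth.Agent.Lib.Helper24.Orbit.redSubι E hE
  have hj : Set.range j.base = E := Groth.Agent.Lib.Helper24.Orbit.range_redSubι E hE
  -- the common irreducible component and its generic point
  have hZ : irreducibleComponent (z.left.base pt) = irreducibleComponent (x.left.base pt) :=
    ((uic a hΦ _).eq_irreducibleComponent (irreducibleComponent_mem_irreducibleComponents _)
      hz).symm
  obtain ⟨ζ, -, hζ⟩ := exists_generic_specializes (x.left.base pt)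
  have hmax : ∀ ν' : X.left, ν' ⤳ ζ → ν' = ζ := fun ν' h =>
    eq_of_specializes_generic (irreducibleComponent_mem_irreducibleComponents _) hζ h
  have hζmem : ζ ∈ irreducibleComponent (x.left.base pt) := by
    rw [← hζ.def]; exact subset_closure (Set.mem_singleton ζ)
  -- both orbit maps hit `ζ` on the unit component
  have key : ∀ y : 𝟙_ (Over (Spec (CommRingCat.of k))) ⟶ X,
      irreducibleComponent (y.left.base pt) = irreducibleComponent (x.left.base pt) →
      ∃ h ∈ E, (a.orbitMap y).left.base h = ζ := by
    intro y hy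
    have hcl : ζ ∈ closure (Set.range (j ≫ (a.orbitMap y).left).base) := by
      rw [Scheme.Hom.comp_base, TopCat.coe_comp, Set.range_comp, hj]
      exact subset_closure_orbit a hΦ y pt (by rw [hy]; exact hζmem)
    obtain ⟨e, he⟩ := mem_range_of_maximal (j ≫ (a.orbitMap y).left) ζ hmax hcl
    exact ⟨j.base e, hj.le ⟨e, rfl⟩, he⟩
  obtain ⟨h₁, hh₁, hπ₁⟩ := key x rfl
  obtain ⟨h₂, hh₂, hπ₂⟩ := key z hZ
  -- a point of the fibre product over `(h₁, h₂)`
  obtain ⟨t, ht1, ht2⟩ := Scheme.Pullback.exists_preimage_pullback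
    (f := (a.orbitMap x).left) (g := (a.orbitMap z).left) h₁ h₂ (hπ₁.trans hπ₂.symm)
  let Pb := pullback (a.orbitMap x).left (a.orbitMap z).left
  let T : Over (Spec (CommRingCat.of k)) :=
    Over.mk (Pb.fromSpecResidueField t ≫ pullback.fst _ _ ≫ G.hom)
  let g₁ : T ⟶ G := Over.homMk (Pb.fromSpecResidueField t ≫ pullback.fst _ _)
    (by simp [T])
  have hGG : pullback.snd (a.orbitMap x).left (a.orbitMap z).left ≫ G.hom =
      pullback.fst (a.orbitMap x).left (a.orbitMap z).left ≫ G.hom := by
    conv_lhs => rw [← Over.w (a.orbitMap z)]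
    conv_rhs => rw [← Over.w (a.orbitMap x)]
    rw [← Category.assoc, ← Category.assoc, pullback.condition]
  let g₂ : T ⟶ G := Over.homMk (Pb.fromSpecResidueField t ≫ pullback.snd _ _)
    (by simp only [T, Over.mk_hom, Category.assoc]; rw [hGG])
  have hcomm : g₁ ≫ a.orbitMap x = g₂ ≫ a.orbitMap z := by
    apply Over.OverMorphism.ext
    simp only [Over.comp_left, g₁, g₂, Over.homMk_left, Category.assoc]
    rw [pullback.condition]
  let o : T.left := IsLocalRing.closedPoint (Pb.residueField t)
  have ho1 : g₁.left.base o = h₁ := by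
    change (Pb.fromSpecResidueField t ≫ pullback.fst _ _).base o = h₁
    rw [Scheme.Hom.comp_apply, Scheme.fromSpecResidueField_apply]; exact ht1
  have ho2 : g₂.left.base o = h₂ := by
    change (Pb.fromSpecResidueField t ≫ pullback.snd _ _).base o = h₂
    rw [Scheme.Hom.comp_apply, Scheme.fromSpecResidueField_apply]; exact ht2
  -- `z = g₂⁻¹ g₁ x` on `T`-points
  have hsm : smul a g₁ (toUnit T ≫ x) = smul a g₂ (toUnit T ≫ z) := by
    have e1 := AlgGrp.Action.comp_orbitMap a g₁ x
    have e2 := AlgGrp.Action.comp_orbitMap a g₂ z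
    unfold smul
    rw [← e1, ← e2, hcomm]
  have hz' : toUnit T ≫ z = smul a (lift (g₂ ≫ ι[G]) g₁ ≫ μ[G]) (toUnit T ≫ x) := by
    rw [mul_smul', hsm, Groth.Agent.Lib.Helper4.ActShear.inv_smul_smul]
  have hgE : (lift (g₂ ≫ ι[G]) g₁ ≫ μ[G]).left.base o ∈ E := by
    rw [Over.comp_left, Scheme.Hom.comp_apply]
    apply mul_mem_unitComponent pt
    · rw [← Scheme.Hom.comp_apply, ← Over.comp_left, lift_fst, Over.comp_left,
        Scheme.Hom.comp_apply, ho2]
      exact inv_mem_unitComponent pt h₂ hh₂
    · rw [← Scheme.Hom.comp_apply, ← Over.comp_left, lift_snd, ho1]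
      exact hh₁
  have hfin := smul_mem_smulSet a (lift (g₂ ≫ ι[G]) g₁ ≫ μ[G]) (toUnit T ≫ x) o hgE
    (A := {x.left.base pt}) (by
      rw [Over.comp_left, Scheme.Hom.comp_apply, toUnit_apply T o pt]; rfl)
  rw [← hz', Over.comp_left, Scheme.Hom.comp_apply, toUnit_apply T o pt] at hfin
  exact hfin

end Groth.Agent.Lib.Helper24.NFT
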