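import Mathlib
import Groth.Agent.Lib.Helper24.NFT.OrbitClosed
import Groth.Agent.Lib.Helper24.PtFlat.Homog

/-!
# Quasi-compact dominant homomorphisms of group schemes over a field are surjective
(SGA3 VI_B 1.2 / VI_A 2.6.? without finite type hypotheses), and flat when the target is reduced
-/

set_option autoImplicit false
universe u

open CategoryTheory MonoidalCategory CartesianMonoidalCategory MonObj GrpObj AlgebraicGeometry Limits

namespace Groth.Agent.Lib.Helper24.NFT

open Groth.Agent.Lib.Helper4.ActShear Groth.Agent.Lib.Helper4.ActShear2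

section stalk

/-- the stalk of a reduced scheme at a point without proper generizations is a field -/
theorem isField_stalk_of_maximal {X : Scheme.{u}} [IsReduced X] (x : X)
    (hmax : ∀ ν : X, ν ⤳ x → ν = x) : IsField (X.presheaf.stalk x) := by
  rw [IsLocalRing.isField_iff_maximalIdeal_eq]
  have hprime : ∀ q : Ideal (X.presheaf.stalk x), q.IsPrime →
      q = IsLocalRing.maximalIdeal (X.presheaf.stalk x) := by
    intro q hq
    let q' : ↥(Spec (X.presheaf.stalk x)) := (⟨q, hq⟩ : PrimeSpectrum (X.presheaf.stalk x))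
    have h1 : (X.fromSpecStalk x).base q' ⤳ x := by
      have : (X.fromSpecStalk x).base q' ∈ Set.range (X.fromSpecStalk x).base := ⟨q', rfl⟩
      rw [Scheme.range_fromSpecStalk] at this
      exact this
    have h2 : (X.fromSpecStalk x).base q' =
        (X.fromSpecStalk x).base (IsLocalRing.closedPoint (X.presheaf.stalk x)) := by
      rw [hmax _ h1, Scheme.fromSpecStalk_closedPoint]
    have h3 : q' = IsLocalRing.closedPoint (X.presheaf.stalk x) :=
      (X.fromSpecStalk x).isEmbedding.injective h2
    exact congrArg PrimeSpectrum.asIdeal h3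
  have hnil : nilradical (X.presheaf.stalk x) = ⊥ := nilradical_eq_bot_iff.mpr inferInstance
  rw [← hnil, nilradical_eq_sInf]
  apply le_antisymm
  · apply le_sInf
    intro q hq
    rw [hprime q hq]
  · exact sInf_le (IsLocalRing.maximalIdeal.isMaximal _).isPrime

theorem flat_of_isField {R S : Type*} [CommRing R] [CommRing S] (φ : R →+* S) (hR : IsField R) :
    φ.Flat := by
  letI := hR.toField
  letI := φ.toAlgebra
  exact (inferInstance : Module.Flat R S)

end stalk

variable {k : Type u} [Field k] {G H : Over (Spec (CommRingCat.of k))} [GrpObj G] [GrpObj H]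
  (f : G ⟶ H) [IsMonHom f]

/-- `h ↦ y h⁻¹` on `T ⊗ H` -/
noncomputable def invTr {T : Over (Spec (CommRingCat.of k))} (y : T ⟶ H) : T ⊗ H ⟶ T ⊗ H :=
  (T ◁ ι[H]) ≫ shearT (selfAct H) y

theorem invTr_fst {T : Over (Spec (CommRingCat.of k))} (y : T ⟶ H) :
    invTr y ≫ fst T H = fst T H := by
  unfold invTr shearT
  rw [Category.assoc, lift_fst, whiskerLeft_fst]

theorem invTr_snd {T : Over (Spec (CommRingCat.of k))} (y : T ⟶ H) :
    invTr y ≫ snd T H = (fst T H ≫ y) * (snd T H)⁻¹ := by
  unfold invTr shearT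
  rw [Category.assoc, lift_snd, comp_smul, smul_selfAct, ← Category.assoc, whiskerLeft_fst,
    whiskerLeft_snd, Hom.inv_def]

instance {T : Over (Spec (CommRingCat.of k))} (y : T ⟶ H) : IsIso (invTr y) := by
  unfold invTr; infer_instance

instance {T : Over (Spec (CommRingCat.of k))} (y : T ⟶ H) : IsIso (invTr y).left :=
  inferInstanceAs (IsIso ((Over.forget _).map (invTr y)))

/-- `h ↦ y h⁻¹` as a homeomorphism -/
noncomputable def invTrHomeo {T : Over (Spec (CommRingCat.of k))} (y : T ⟶ H) :
    (T ⊗ H).left ≃ₜ (T ⊗ H).left := (invTr y).left.homeomorph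

/-- **A quasi-compact dominant homomorphism of group schemes over a field is surjective.** -/
theorem surjective_of_dominant [QuasiCompact f.left] (hf : DenseRange f.left.base) :
    Surjective f.left := by
  refine ⟨fun y => ?_⟩
  let T := resT H y
  let yT : T ⟶ H := resPt H y
  let o : T.left := resO H y
  have ho : yT.left.base o = y := resPt_resO H y
  haveI : Subsingleton T.left :=
    inferInstanceAs (Subsingleton (PrimeSpectrum (H.left.residueField y)))
  let fT : T ⊗ G ⟶ T ⊗ H := T ◁ f
  have sq : IsPullback fT.left (snd T G).left (snd T H).left f.left :=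
    Groth.Agent.Lib.Helper4.MaxOpenGrp.isPullback_whiskerLeft T G H f
  haveI hqc : QuasiCompact fT.left :=
    MorphismProperty.of_isPullback (P := @QuasiCompact) sq.flip inferInstance
  have hrange : Set.range fT.left.base = (snd T H).left.base ⁻¹' Set.range f.left.base := by
    have := Scheme.image_preimage_eq_of_isPullback sq.flip Set.univ
    rwa [Set.preimage_univ, Set.image_univ, Set.image_univ] at this
  have hdense : ∀ z : (T ⊗ H).left, z ∈ closure (Set.range fT.left.base) := by
    intro z
    rw [hrange]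
    exact (Dense.preimage hf (snd T H).left.isOpenMap) z
  -- a maximal point and its image under `h ↦ y h⁻¹`
  obtain ⟨ξ, -, hξ⟩ := exists_generic_specializes (ptOf yT o)
  have hmaxξ : ∀ ν : (T ⊗ H).left, ν ⤳ ξ → ν = ξ := fun ν h =>
    eq_of_specializes_generic (irreducibleComponent_mem_irreducibleComponents _) hξ h
  let θ := invTrHomeo yT
  have hmaxξ' : ∀ ν : (T ⊗ H).left, ν ⤳ θ ξ → ν = θ ξ := by
    intro ν h
    have h1 : θ.symm ν ⤳ θ.symm (θ ξ) := h.map θ.symm.continuous
    rw [θ.symm_apply_apply] at h1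
    rw [← hmaxξ _ h1, θ.apply_symm_apply]
  obtain ⟨γ₁, h₁⟩ := mem_range_of_maximal fT.left ξ hmaxξ (hdense ξ)
  obtain ⟨γ₂, h₂⟩ := mem_range_of_maximal fT.left (θ ξ) hmaxξ' (hdense _)
  -- a common point of the fibre product
  have hc : (fT ≫ invTr yT).left.base γ₁ = fT.left.base γ₂ := by
    rw [Over.comp_left, Scheme.Hom.comp_apply, h₁, h₂]; rfl
  obtain ⟨t, ht1, ht2⟩ := Scheme.Pullback.exists_preimage_pullback
    (f := (fT ≫ invTr yT).left) (g := fT.left) γ₁ γ₂ hc
  let Pb := pullback (fT ≫ invTr yT).left fT.left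
  let T' : Over (Spec (CommRingCat.of k)) :=
    Over.mk (Pb.fromSpecResidueField t ≫ pullback.fst _ _ ≫ (T ⊗ G).hom)
  let c₁ : T' ⟶ T ⊗ G := Over.homMk (Pb.fromSpecResidueField t ≫ pullback.fst _ _) (by simp [T'])
  have hstr : pullback.snd (fT ≫ invTr yT).left fT.left ≫ (T ⊗ G).hom =
      pullback.fst (fT ≫ invTr yT).left fT.left ≫ (T ⊗ G).hom := by
    conv_lhs => rw [← Over.w fT]
    conv_rhs => rw [← Over.w (fT ≫ invTr yT)]
    rw [← Category.assoc, ← Category.assoc, pullback.condition]
  let c₂ : T' ⟶ T ⊗ G := Over.homMk (Pb.fromSpecResidueField t ≫ pullback.snd _ _)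
    (by simp only [T', Over.mk_hom, Category.assoc]; rw [hstr])
  have hcomm : c₁ ≫ fT ≫ invTr yT = c₂ ≫ fT := by
    apply Over.OverMorphism.ext
    have hpc := pullback.condition (f := (fT ≫ invTr yT).left) (g := fT.left)
    have := congrArg (fun m => Pb.fromSpecResidueField t ≫ m) hpc
    simp only [← Category.assoc] at this
    exact this
  -- decompose into points
  let u : T' ⟶ T := c₁ ≫ fst T G
  let g₁ : T' ⟶ G := c₁ ≫ snd T G
  let g₂ : T' ⟶ G := c₂ ≫ snd T G
  have hsnd : (u ≫ yT) * (g₁ ≫ f)⁻¹ = g₂ ≫ f := by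
    have := congrArg (fun m => m ≫ snd T H) hcomm
    simp only [Category.assoc] at this
    rw [invTr_snd, MonObj.comp_mul, MonObj.comp_mul, GrpObj.comp_inv, GrpObj.comp_inv] at this
    have e1 : fT ≫ fst T H = fst T G := whiskerLeft_fst _ _
    have e2 : fT ≫ snd T H = snd T G ≫ f := whiskerLeft_snd _ _
    rw [← Category.assoc fT, e1, e2] at this
    simpa [u, g₁, g₂, Category.assoc] using this
  have hy : u ≫ yT = (g₂ * g₁) ≫ f := by
    rw [MonObj.mul_comp, ← hsnd, inv_mul_cancel_right]
  let o' : T'.left := IsLocalRing.closedPoint (Pb.residueField t)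
  refine ⟨(g₂ * g₁).left.base o', ?_⟩
  rw [← Scheme.Hom.comp_apply, ← Over.comp_left, ← hy, Over.comp_left, Scheme.Hom.comp_apply,
    Subsingleton.elim (u.left.base o') o, ho]

/-- if moreover the target is reduced, the homomorphism is flat -/
theorem flat_of_dominant_of_isReduced [QuasiCompact f.left] (hf : DenseRange f.left.base)
    [IsReduced H.left] : Flat f.left := by
  have hsurj := surjective_of_dominant f hf
  have hne : Nonempty ↥(𝟙_ (Over (Spec (CommRingCat.of k)))).left :=
    inferInstanceAs (Nonempty (PrimeSpectrum k))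
  obtain ⟨pt⟩ := hne
  obtain ⟨ξ, -, hξ⟩ := exists_generic_specializes (η[H].left.base pt)
  obtain ⟨g₀, hg₀⟩ := hsurj.surj ξ
  have hmax : ∀ ν : H.left, ν ⤳ f.left.base g₀ → ν = f.left.base g₀ := by
    rw [hg₀]
    exact fun ν h =>
      eq_of_specializes_generic (irreducibleComponent_mem_irreducibleComponents _) hξ h
  have hfield := isField_stalk_of_maximal (f.left.base g₀) hmax
  exact Groth.Agent.Lib.Helper24.PtFlat.flat_hom_of_flat_at_point f g₀
    (flat_of_isField _ hfield)

end Groth.Agent.Lib.Helper24.NFT
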