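import Mathlib
import Groth.Agent.Lib.Helper24.NFT.HomSurj
import Groth.Agent.Lib.Helper24.AntiAff.ImageGroup
import Groth.Agent.Lib.Helper24.MonoImm.Main
import Groth.Agent.Lib.Helper24.HomogSep.BaseChange

/-!
# A quasi-compact monomorphism of group schemes locally of finite type over a field is a closed
immersion (SGA3 VI_B 1.4.2)
-/

set_option autoImplicit false
universe u

open CategoryTheory MonoidalCategory CartesianMonoidalCategory MonObj GrpObj AlgebraicGeometry Limits

namespace Groth.Agent.Lib.Helper24.NFT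

open Groth.Agent.Lib.Helper4.ActShear Groth.Agent.Lib.Helper4.ActShear2

/-- a scheme-theoretically dominant quasi-compact monomorphism of finite type to a locally
noetherian scheme is flat at some point of any given nonempty quasi-compact open preimage -/
theorem exists_flat_point_of_mono {X Y : Scheme.{u}} (f : X ⟶ Y) [Mono f] [LocallyOfFiniteType f]
    [QuasiCompact f] [IsSchemeTheoreticallyDominant f] [IsLocallyNoetherian Y]
    (V : Y.Opens) (hV : IsAffineOpen V) (hne : Nonempty ↥(f ⁻¹ᵁ V)) :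
    ∃ x : X, (f.stalkMap x).hom.Flat := by
  let φ := f ∣_ V
  haveI : IsAffine V.toScheme := hV
  haveI : Mono φ := by
    have : Mono (φ ≫ V.ι) := by
      rw [morphismRestrict_ι]; infer_instance
    exact mono_of_mono _ V.ι
  haveI : IsLocallyNoetherian V.toScheme := inferInstance
  haveI : CompactSpace ↥(f ⁻¹ᵁ V).toScheme :=
    isCompact_iff_compactSpace.mp (f.isCompact_preimage hV.isCompact)
  haveI : IsLocallyNoetherian (f ⁻¹ᵁ V).toScheme :=
    LocallyOfFiniteType.isLocallyNoetherian φ
  haveI : IsNoetherian (f ⁻¹ᵁ V).toScheme := {}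
  haveI : Nonempty ↥(f ⁻¹ᵁ V).toScheme := hne
  obtain ⟨U, ⟨x⟩, hU⟩ := Groth.Agent.Lib.Helper24.MonoImm.exists_open_isClosedImmersion φ
  haveI := hU
  haveI : IsSchemeTheoreticallyDominant φ :=
    IsSchemeTheoreticallyDominant.of_isPullback (isPullback_morphismRestrict f V).flip
  haveI : IsSchemeTheoreticallyDominant (φ ∣_ U) :=
    IsSchemeTheoreticallyDominant.of_isPullback (isPullback_morphismRestrict φ U).flip
  haveI : IsIso (φ ∣_ U) := IsClosedImmersion.isIso_iff_ker_eq_bot.2 (φ ∣_ U).ker_eq_bot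
  have hfl : Flat (φ ∣_ U) := inferInstance
  have h1 := (Flat.iff_flat_stalkMap (φ ∣_ U)).1 hfl x
  have h2 : (φ.stalkMap x.1).hom.Flat :=
    (RingHom.Flat.respectsIso.arrow_mk_iso_iff (morphismRestrictStalkMap φ U x)).mp h1
  have h3 : (f.stalkMap x.1.1).hom.Flat :=
    (RingHom.Flat.respectsIso.arrow_mk_iso_iff (morphismRestrictStalkMap f V x.1)).mp h2
  exact ⟨_, h3⟩

variable {k : Type u} [Field k]

instance : Subsingleton ↥(Spec (CommRingCat.of k)) :=
  inferInstanceAs (Subsingleton (PrimeSpectrum k))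

/-- **SGA3 VI_B 1.4.2 (field case).** -/
theorem isClosedImmersion_of_mono_field (G H : Over (Spec (CommRingCat.of k))) [GrpObj G]
    [GrpObj H] [LocallyOfFiniteType G.hom] [LocallyOfFiniteType H.hom] (u : G ⟶ H) [IsMonHom u]
    [Mono u] [QuasiCompact u.left] : IsClosedImmersion u.left := by
  obtain ⟨M₁, inst, j₁, f₁, hj₁, hci, hfac, hdom, hqc⟩ :=
    Groth.Agent.Lib.Helper24.AntiAff.exists_image_subgroup G H u
  haveI : Mono j₁.left := inferInstance
  haveI : Mono j₁ := Over.mono_of_mono_left j₁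
  haveI hmon : IsMonHom f₁ := by
    refine ⟨?_, ?_⟩
    · rw [← cancel_mono j₁, Category.assoc, hfac, IsMonHom.one_hom, IsMonHom.one_hom]
    · rw [← cancel_mono j₁, Category.assoc, hfac, Category.assoc, IsMonHom.mul_hom,
        IsMonHom.mul_hom, tensorHom_comp_tensorHom_assoc, hfac]
  haveI : Mono f₁ := mono_of_mono_fac hfac
  haveI : Mono f₁.left := inferInstance
  have hfacl : f₁.left ≫ j₁.left = u.left := by rw [← Over.comp_left, hfac]
  haveI : LocallyOfFiniteType u.left := by
    have : LocallyOfFiniteType (u.left ≫ H.hom) := by rw [Over.w u]; infer_instance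
    exact locallyOfFiniteType_of_comp u.left H.hom
  haveI : LocallyOfFiniteType f₁.left := by
    have : LocallyOfFiniteType (f₁.left ≫ j₁.left) := by rw [hfacl]; infer_instance
    exact locallyOfFiniteType_of_comp f₁.left j₁.left
  haveI : LocallyOfFiniteType M₁.hom := by
    rw [← Over.w j₁]; infer_instance
  haveI : IsLocallyNoetherian M₁.left := LocallyOfFiniteType.isLocallyNoetherian M₁.hom
  haveI : IsDominant f₁.left := inferInstance
  haveI hsurj : Surjective f₁.left := surjective_of_dominant f₁ f₁.left.denseRange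
  -- flatness at one point
  have hne : Nonempty ↥(𝟙_ (Over (Spec (CommRingCat.of k)))).left :=
    inferInstanceAs (Nonempty (PrimeSpectrum k))
  obtain ⟨pt⟩ := hne
  obtain ⟨V, hV, heV, -⟩ :=
    exists_isAffineOpen_mem_and_subset (x := η[M₁].left.base pt) (U := ⊤) trivial
  have hneV : Nonempty ↥(f₁.left ⁻¹ᵁ V) := by
    refine ⟨⟨η[G].left.base pt, ?_⟩⟩
    change f₁.left.base (η[G].left.base pt) ∈ V
    rw [← Scheme.Hom.comp_apply, ← Over.comp_left, IsMonHom.one_hom]
    exact heV
  obtain ⟨g₀, hg₀⟩ := exists_flat_point_of_mono f₁.left V hV hneV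
  haveI : Flat G.hom := inferInstance
  haveI : Flat f₁.left :=
    Groth.Agent.Lib.Helper24.PtFlat.flat_hom_of_flat_at_point f₁ g₀ hg₀
  haveI : IsIso f₁.left := Flat.isIso_of_surjective_of_mono f₁.left
  rw [← hfacl]
  infer_instance

/-- universal closedness can be checked after a surjective universally closed base change -/
theorem universallyClosed_of_isPullback_of_surjective {X Y X' Y' : Scheme.{u}} {u : X ⟶ Y}
    {u' : X' ⟶ Y'} {i' : X' ⟶ X} {i : Y' ⟶ Y} (sq : IsPullback u' i' i u) [Surjective i]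
    [UniversallyClosed i] [UniversallyClosed u'] : UniversallyClosed u := by
  constructor
  intro X₁ Y₁ i₁ i₂ f₁ h
  -- `Y₂ = Y₁ ×_Y Y'`, `X₂ = X₁ ×_{Y₁} Y₂`
  let p₁ : pullback i₂ i ⟶ Y₁ := pullback.fst i₂ i
  let p₂ : pullback i₂ i ⟶ Y' := pullback.snd i₂ i
  let q₁ : pullback f₁ p₁ ⟶ X₁ := pullback.fst f₁ p₁
  let f₂ : pullback f₁ p₁ ⟶ pullback i₂ i := pullback.snd f₁ p₁
  haveI : Surjective p₁ := inferInstance
  haveI : UniversallyClosed p₁ := inferInstance
  have sqA : IsPullback f₂ q₁ p₁ f₁ := (IsPullback.of_hasPullback f₁ p₁).flip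
  have sqAB : IsPullback f₂ (q₁ ≫ i₁) (p₁ ≫ i₂) u := sqA.paste_vert h
  have hcond : p₁ ≫ i₂ = p₂ ≫ i := pullback.condition
  rw [hcond] at sqAB
  let l : pullback f₁ p₁ ⟶ X' := sq.lift (f₂ ≫ p₂) (q₁ ≫ i₁) (by
    rw [Category.assoc, Category.assoc, ← hcond, ← h.w, ← Category.assoc, sqA.w,
      Category.assoc])
  have hl1 : l ≫ u' = f₂ ≫ p₂ := sq.lift_fst _ _ _
  have hl2 : l ≫ i' = q₁ ≫ i₁ := sq.lift_snd _ _ _
  have sqC : IsPullback f₂ l p₂ u' := by
    refine IsPullback.of_bot ?_ hl1.symm sq
    rw [hl2]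
    exact sqAB
  haveI : UniversallyClosed f₂ :=
    MorphismProperty.of_isPullback (P := @UniversallyClosed) sqC.flip inferInstance
  intro C hC
  have heq : f₁.base '' C = p₁.base '' (f₂.base '' (q₁.base ⁻¹' C)) := by
    apply Set.Subset.antisymm
    · rintro _ ⟨c, hc, rfl⟩
      obtain ⟨y₂, hy₂⟩ := (inferInstance : Surjective p₁).surj (f₁.base c)
      obtain ⟨x₂, hx1, hx2⟩ := Scheme.Pullback.exists_preimage_pullback (f := f₁) (g := p₁) c y₂
        hy₂.symm
      refine ⟨y₂, ⟨x₂, ?_, hx2⟩, hy₂⟩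
      change q₁.base x₂ ∈ C
      rw [show q₁.base x₂ = c from hx1]
      exact hc
    · rintro _ ⟨_, ⟨x₂, hx₂, rfl⟩, rfl⟩
      refine ⟨q₁.base x₂, hx₂, ?_⟩
      rw [← Scheme.Hom.comp_apply, ← Scheme.Hom.comp_apply, sqA.w]
  rw [heq]
  exact p₁.isClosedMap _ (f₂.isClosedMap _ (hC.preimage q₁.continuous))

/-- **SGA3 VI_B 1.4.2.** A quasi-compact monomorphism of group schemes locally of finite type
over an artinian local ring is a closed immersion. -/
theorem isClosedImmersion_of_mono_artinian (A : Type u) [CommRing A] [IsArtinianRing A]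
    [IsLocalRing A] (G H : Over (Spec (CommRingCat.of A))) [GrpObj G] [GrpObj H]
    [LocallyOfFiniteType G.hom] [LocallyOfFiniteType H.hom] (u : G ⟶ H) [IsMonHom u] [Mono u]
    [QuasiCompact u.left] : IsClosedImmersion u.left := by
  let κ : Type u := IsLocalRing.ResidueField A
  let g : Spec (CommRingCat.of κ) ⟶ Spec (CommRingCat.of A) :=
    Spec.map (CommRingCat.ofHom (IsLocalRing.residue A))
  haveI : IsClosedImmersion g :=
    IsClosedImmersion.spec_of_surjective _ IsLocalRing.residue_surjective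
  haveI : Subsingleton ↥(Spec (CommRingCat.of A)) :=
    Groth.Agent.Lib.Helper24.PtFlat.subsingleton_spec_of_artinian_local A
  haveI : Nonempty ↥(Spec (CommRingCat.of κ)) := inferInstanceAs (Nonempty (PrimeSpectrum κ))
  haveI : Surjective g := by
    refine ⟨fun y => ?_⟩
    obtain ⟨x⟩ := (inferInstance : Nonempty ↥(Spec (CommRingCat.of κ)))
    exact ⟨x, Subsingleton.elim _ _⟩
  let Gk : Over (Spec (CommRingCat.of κ)) := Red.bc g G
  let Hk : Over (Spec (CommRingCat.of κ)) := Red.bc g H
  let uk : Gk ⟶ Hk := (Over.pullback g).map u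
  haveI : IsMonHom uk := inferInstance
  haveI : Mono uk := inferInstance
  have sq : IsPullback uk.left (pullback.fst G.hom g) (pullback.fst H.hom g) u.left :=
    Groth.Agent.Lib.Helper24.HomogSep.isPullback_pullback_map g u
  haveI : QuasiCompact uk.left :=
    MorphismProperty.of_isPullback (P := @QuasiCompact) sq.flip inferInstance
  haveI : LocallyOfFiniteType Gk.hom :=
    inferInstanceAs (LocallyOfFiniteType (pullback.snd G.hom g))
  haveI : LocallyOfFiniteType Hk.hom :=
    inferInstanceAs (LocallyOfFiniteType (pullback.snd H.hom g))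
  haveI : IsClosedImmersion uk.left := isClosedImmersion_of_mono_field Gk Hk uk
  haveI : UniversallyClosed u.left := universallyClosed_of_isPullback_of_surjective sq
  haveI : Mono u.left := inferInstance
  haveI : LocallyOfFiniteType u.left := by
    have : LocallyOfFiniteType (u.left ≫ H.hom) := by rw [Over.w u]; infer_instance
    exact locallyOfFiniteType_of_comp u.left H.hom
  haveI : IsProper u.left := {}
  exact (IsClosedImmersion.iff_isProper_and_mono _).2 ⟨inferInstance, inferInstance⟩

end Groth.Agent.Lib.Helper24.NFT
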