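import Mathlib
import Groth.Agent.Lib.Helper24.NFT.Compact
import Groth.Agent.Lib.Helper24.NFT.BC
import Groth.Agent.Lib.Helper24.HomogSep.BaseChange

/-!
# Quasi-compactness of homogeneous spaces with irreducible fibres (SGA3 VI_B 5.3–5.5)
-/

set_option autoImplicit false
universe u

open CategoryTheory MonoidalCategory CartesianMonoidalCategory MonObj GrpObj AlgebraicGeometry Limits

namespace Groth.Agent.Lib.Helper24.NFT

open Groth.Agent.Lib.Helper4.ActShear Groth.Agent.Lib.Helper4.ActShear2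

variable {S : Scheme.{u}} {G X : Over S}

/-- a box of quasi-compact opens lying over a common affine open of the base is quasi-compact -/
theorem isCompact_box_of_isCompact (S' : S.Opens) (hS' : IsAffineOpen S')
    (W : G.left.Opens) (V : X.left.Opens) (hW : IsCompact (W : Set G.left))
    (hV : IsCompact (V : Set X.left))
    (hWS : (W : Set G.left) ⊆ G.hom.base ⁻¹' (S' : Set S))
    (hVS : (V : Set X.left) ⊆ X.hom.base ⁻¹' (S' : Set S)) :
    IsCompact ((fst G X).left.base ⁻¹' (W : Set G.left) ∩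
      (snd G X).left.base ⁻¹' (V : Set X.left)) := by
  let WO : Over S := Over.mk (W.ι ≫ G.hom)
  let VO : Over S := Over.mk (V.ι ≫ X.hom)
  let j₁ : WO ⟶ G := Over.homMk W.ι rfl
  let j₂ : VO ⟶ X := Over.homMk V.ι rfl
  have hr₁ : Set.range (W.ι ≫ G.hom).base ⊆ Set.range S'.ι.base := by
    rintro _ ⟨w, rfl⟩
    rw [S'.range_ι, Scheme.Hom.comp_apply]
    exact hWS w.2
  have hr₂ : Set.range (V.ι ≫ X.hom).base ⊆ Set.range S'.ι.base := by
    rintro _ ⟨w, rfl⟩
    rw [S'.range_ι, Scheme.Hom.comp_apply]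
    exact hVS w.2
  let f₁ : W.toScheme ⟶ S'.toScheme := IsOpenImmersion.lift S'.ι (W.ι ≫ G.hom) hr₁
  let f₂ : V.toScheme ⟶ S'.toScheme := IsOpenImmersion.lift S'.ι (V.ι ≫ X.hom) hr₂
  have hf₁ : f₁ ≫ S'.ι = W.ι ≫ G.hom := IsOpenImmersion.lift_fac _ _ _
  have hf₂ : f₂ ≫ S'.ι = V.ι ≫ X.hom := IsOpenImmersion.lift_fac _ _ _
  haveI : IsAffine S'.toScheme := hS'
  haveI : CompactSpace W.toScheme := isCompact_iff_compactSpace.mp hW
  haveI : CompactSpace V.toScheme := isCompact_iff_compactSpace.mp hV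
  haveI : QuasiCompact f₁ := inferInstance
  haveI : CompactSpace ↥(pullback f₁ f₂) := inferInstance
  let e : pullback f₁ f₂ ≅ pullback (W.ι ≫ G.hom) (V.ι ≫ X.hom) :=
    (IsPullback.of_isLimit (pullbackIsPullbackOfCompMono f₁ f₂ S'.ι)).isoPullback ≪≫
      pullback.congrHom hf₁ hf₂
  haveI : CompactSpace ↥(WO ⊗ VO).left :=
    e.hom.homeomorph.surjective.compactSpace e.hom.continuous
  have h := range_tensorHom_left j₁ j₂
  have h1 : Set.range j₁.left = (W : Set G.left) := W.range_ι
  have h2 : Set.range j₂.left = (V : Set X.left) := V.range_ι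
  rw [h1, h2] at h
  rw [← h]
  exact isCompact_range (j₁ ⊗ₘ j₂).left.continuous

variable [GrpObj G] (a : AlgGrp.Action G X)

/-- the fibre argument: if the fibre of `X` through `x` is irreducible and meets the open `V`, then
`x ∈ W · V` for every open neighbourhood `W` of the unit section -/
theorem mem_smulSet_of_fibre (hΦ : Surjective (lift a.act (snd G X)).left) (x : X.left)
    (hirr : IsPreirreducible (X.hom.base ⁻¹' {X.hom.base x}))
    (W : G.left.Opens)
    (hW : ∀ p : ↥(𝟙_ (Over S)).left, (𝟙_ (Over S)).hom.base p = X.hom.base x →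
      η[G].left.base p ∈ W)
    (V : X.left.Opens)
    (hV : ((V : Set X.left) ∩ X.hom.base ⁻¹' {X.hom.base x}).Nonempty) :
    x ∈ smulSet a (W : Set G.left) (V : Set X.left) := by
  set s : S := X.hom.base x with hs
  let κ : Type u := S.residueField s
  let g : Spec (CommRingCat.of κ) ⟶ S := S.fromSpecResidueField s
  let Gs : Over (Spec (CommRingCat.of κ)) := Red.bc g G
  let Xs : Over (Spec (CommRingCat.of κ)) := Red.bc g X
  let as : AlgGrp.Action Gs Xs := a.bc g
  have hΦs : Surjective (lift as.act (snd Gs Xs)).left :=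
    Groth.Agent.Lib.Helper24.HomogSep.surjective_bc g a hΦ
  let o : ↥(Spec (CommRingCat.of κ)) := IsLocalRing.closedPoint κ
  have hgo : g.base o = s := Scheme.fromSpecResidueField_apply _ _
  obtain ⟨xs, hxs, -⟩ := Scheme.Pullback.exists_preimage_pullback (f := X.hom) (g := g) x o
    (by rw [hgo])
  -- the fibre is irreducible
  haveI : PreirreducibleSpace ↥(X.hom.base ⁻¹' {s}) := Subtype.preirreducibleSpace hirr
  haveI : PreirreducibleSpace Xs.left :=
    (X.hom.fiberHomeo s).symm.surjective.preirreducibleSpace (X.hom.fiberHomeo s).symm.continuous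
  have hcomp : irreducibleComponent xs = Set.univ := by
    have huniv : IsIrreducible (Set.univ : Set Xs.left) :=
      ⟨⟨xs, trivial⟩, PreirreducibleSpace.isPreirreducible_univ⟩
    exact ((irreducibleComponent_mem_irreducibleComponents xs).2 huniv
      (Set.subset_univ _)).antisymm' (Set.subset_univ _)
  let Vs : Xs.left.Opens := pullback.fst X.hom g ⁻¹ᵁ V
  obtain ⟨v, hvV, hvs⟩ := hV
  obtain ⟨vs, hvs1, -⟩ := Scheme.Pullback.exists_preimage_pullback (f := X.hom) (g := g) v o
    (by rw [hgo]; exact hvs)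
  have hU : ((Vs : Set Xs.left) ∩ irreducibleComponent xs).Nonempty := by
    refine ⟨vs, ?_, by rw [hcomp]; trivial⟩
    change (pullback.fst X.hom g).base vs ∈ V
    rw [hvs1]
    exact hvV
  let Ws : Gs.left.Opens := pullback.fst G.hom g ⁻¹ᵁ W
  have hne : Nonempty ↥(𝟙_ (Over (Spec (CommRingCat.of κ)))).left :=
    inferInstanceAs (Nonempty (PrimeSpectrum κ))
  obtain ⟨pt⟩ := hne
  have hWs : η[Gs].left.base pt ∈ Ws := by
    change (pullback.fst G.hom g).base (η[Gs].left.base pt) ∈ W
    rw [← Scheme.Hom.comp_apply, bc_unit_fst, Scheme.Hom.comp_apply, Scheme.Hom.comp_apply]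
    apply hW
    rw [← Scheme.Hom.comp_apply, pullback.condition, Scheme.Hom.comp_apply]
    rw [Subsingleton.elim ((pullback.snd (𝟙_ (Over S)).hom g).base _) o, hgo]
  have hmem := mem_smulSet_of_component_meets' as hΦs pt Vs xs hU Ws hWs
  have h2 := image_smulSet_bc_subset g a _ _ ⟨xs, hmem, hxs⟩
  refine smulSet_mono a ?_ ?_ h2
  · rintro _ ⟨c, ⟨-, hc⟩, rfl⟩
    exact hc
  · rintro _ ⟨c, hc, rfl⟩
    exact hc

/-- a quasi-compact open neighbourhood of the unit section over an affine open of the base -/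
theorem exists_compact_open_unit (S' : S.Opens) (hS' : IsAffineOpen S') :
    ∃ W : G.left.Opens, IsCompact (W : Set G.left) ∧
      (W : Set G.left) ⊆ G.hom.base ⁻¹' (S' : Set S) ∧
      ∀ p : ↥(𝟙_ (Over S)).left, (𝟙_ (Over S)).hom.base p ∈ S' → η[G].left.base p ∈ W := by
  let E : Set G.left := η[G].left.base '' ((𝟙_ (Over S)).hom.base ⁻¹' (S' : Set S))
  have hE : IsCompact E := by
    apply IsCompact.image _ η[G].left.continuous
    haveI : IsIso (𝟙_ (Over S)).hom := by
      rw [Over.tensorUnit_hom]; exact IsIso.id _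
    exact (𝟙_ (Over S)).hom.homeomorph.isCompact_preimage.2 hS'.isCompact
  have hEsub : ∀ e ∈ E, ∃ U : G.left.Opens, IsAffineOpen U ∧ e ∈ U ∧
      (U : Set G.left) ⊆ G.hom.base ⁻¹' (S' : Set S) := by
    rintro _ ⟨p, hp, rfl⟩
    have hmem : η[G].left.base p ∈ G.hom ⁻¹ᵁ S' := by
      change G.hom.base (η[G].left.base p) ∈ S'
      rw [← Scheme.Hom.comp_apply, Over.w η[G]]
      exact hp
    obtain ⟨U, hU1, hU2, hU3⟩ := exists_isAffineOpen_mem_and_subset hmem
    exact ⟨U, hU1, hU2, hU3⟩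
  choose! Wf hWf1 hWf2 hWf3 using hEsub
  obtain ⟨t, ht⟩ := hE.elim_nhds_subcover' (fun e _ => (Wf e : Set G.left))
    (fun e he => (Wf e).2.mem_nhds (hWf2 e he))
  refine ⟨⟨⋃ x ∈ t, (Wf x.1 : Set G.left), isOpen_biUnion fun x _ => (Wf x.1).2⟩, ?_, ?_, ?_⟩
  · exact t.isCompact_biUnion fun x _ => (hWf1 x.1 x.2).isCompact
  · intro y hy
    simp only [TopologicalSpace.Opens.coe_mk, Set.mem_iUnion] at hy
    obtain ⟨x, -, hyx⟩ := hy
    exact hWf3 x.1 x.2 hyx
  · intro p hp
    exact ht ⟨p, hp, rfl⟩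

/-- **Quasi-compactness over an affine open of the base**, for a homogeneous space with irreducible
fibres, given a quasi-compact open meeting every fibre. -/
theorem isCompact_preimage_of_fibres (hΦ : Surjective (lift a.act (snd G X)).left)
    (S' : S.Opens) (hS' : IsAffineOpen S')
    (hirr : ∀ x : X.left, X.hom.base x ∈ S' →
      IsPreirreducible (X.hom.base ⁻¹' {X.hom.base x}))
    (V : X.left.Opens) (hVc : IsCompact (V : Set X.left))
    (hVS : (V : Set X.left) ⊆ X.hom.base ⁻¹' (S' : Set S))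
    (hVm : ∀ x : X.left, X.hom.base x ∈ S' →
      ((V : Set X.left) ∩ X.hom.base ⁻¹' {X.hom.base x}).Nonempty) :
    IsCompact (X.hom.base ⁻¹' (S' : Set S)) := by
  obtain ⟨W, hWc, hWS, hWe⟩ := exists_compact_open_unit (G := G) S' hS'
  have hbox := isCompact_box_of_isCompact S' hS' W V hWc hVc hWS hVS
  have himage := hbox.image a.act.left.continuous
  have heq : X.hom.base ⁻¹' (S' : Set S) = a.act.left.base ''
      ((fst G X).left.base ⁻¹' (W : Set G.left) ∩ (snd G X).left.base ⁻¹' (V : Set X.left)) := by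
    apply Set.Subset.antisymm
    · intro x hx
      exact mem_smulSet_of_fibre a hΦ x (hirr x hx) W
        (fun p hp => hWe p (by rw [hp]; exact hx)) V (hVm x hx)
    · rintro _ ⟨w, ⟨hw1, -⟩, rfl⟩
      change X.hom.base (a.act.left.base w) ∈ S'
      rw [← Scheme.Hom.comp_apply, Over.w a.act, ← Over.w (fst G X), Scheme.Hom.comp_apply]
      exact hWS hw1
  rw [heq]
  exact himage

end Groth.Agent.Lib.Helper24.NFT
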