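import Mathlib
import Groth.Agent.Lib.Helper24.NFT.HomSurj
import Groth.Agent.Lib.Helper24.NFT.Conn
import Groth.Agent.Lib.Helper24.NFT.QC
import Groth.Agent.Lib.Helper24.HomogSep.GrpIrr
import Groth.Agent.Lib.Helper4.CentralizerClosed
import Groth.Prelude.Def_SGA3x
import Groth.Agent.S1386
import Groth.Agent.Lib.Helper24.NFT.MonoClosed

/-!
# Neutral components and flat homomorphisms (SGA3 VI_B 3.11)
-/

set_option autoImplicit false
universe u

open CategoryTheory MonoidalCategory CartesianMonoidalCategory MonObj GrpObj AlgebraicGeometry Limits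

namespace Groth.Agent.Lib.Helper24.NFT

open Groth.Agent.Lib.Helper4.ActShear Groth.Agent.Lib.Helper4.ActShear2

section field

variable {k : Type u} [Field k] {G H : Over (Spec (CommRingCat.of k))} [GrpObj G] [GrpObj H]

/-- the unit component of a group scheme locally of finite type over a field is open -/
theorem isOpen_unitComponent [LocallyOfFiniteType G.hom]
    (pt : ↥(𝟙_ (Over (Spec (CommRingCat.of k)))).left) :
    IsOpen (irreducibleComponent (η[G].left.base pt)) := by
  haveI : IsLocallyNoetherian G.left := LocallyOfFiniteType.isLocallyNoetherian G.hom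
  exact Groth.Agent.Lib.Helper24.HomogSep.isOpen_irreducibleComponent_of_uMax (X := G.left)
    (fun x => Groth.Agent.Lib.Helper24.Unibranch.uMax_all
      (Groth.Agent.Lib.Helper4.GrpToGrpd.ofGrp G) k (Iso.refl _) x) _

/-- an open homomorphism maps the unit component onto the unit component -/
theorem unitComponent_subset_image_of_isOpenMap [LocallyOfFiniteType G.hom] (u : G ⟶ H)
    [IsMonHom u] (hu : IsOpenMap u.left.base)
    (pt : ↥(𝟙_ (Over (Spec (CommRingCat.of k)))).left) :
    irreducibleComponent (η[H].left.base pt) ⊆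
      u.left.base '' irreducibleComponent (η[G].left.base pt) := by
  intro h hh
  let G0 : G.left.Opens := ⟨irreducibleComponent (η[G].left.base pt), isOpen_unitComponent pt⟩
  let Uo : H.left.Opens := ⟨u.left.base '' (G0 : Set G.left), hu _ G0.2⟩
  have hunit : u.left.base (η[G].left.base pt) = η[H].left.base pt := by
    rw [← Scheme.Hom.comp_apply, ← Over.comp_left, IsMonHom.one_hom]
  have heU : η[H].left.base pt ∈ Uo := ⟨η[G].left.base pt, mem_irreducibleComponent, hunit⟩
  have hcomp : irreducibleComponent h = irreducibleComponent (η[H].left.base pt) :=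
    ((uic_grp h).eq_irreducibleComponent (irreducibleComponent_mem_irreducibleComponents _)
      hh).symm
  have hU : ((Uo : Set H.left) ∩ irreducibleComponent h).Nonempty :=
    ⟨η[H].left.base pt, heU, by rw [hcomp]; exact mem_irreducibleComponent⟩
  have hmem := mem_smulSet_of_component_meets' (selfAct H) (surjective_selfAct H) pt Uo h hU Uo heU
  obtain ⟨w, ⟨-, hw1⟩, hw2, hw3⟩ := exists_of_mem_smulSet (selfAct H) hmem
  -- lift `w` to `G⁰ × G⁰`
  let G0O : Over (Spec (CommRingCat.of k)) := Over.mk (G0.ι ≫ G.hom)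
  let j : G0O ⟶ G := Over.homMk G0.ι rfl
  have hrange : Set.range (j ≫ u).left.base = (Uo : Set H.left) := by
    rw [Over.comp_left, Scheme.Hom.comp_base, TopCat.coe_comp, Set.range_comp]
    have : Set.range j.left.base = (G0 : Set G.left) := G0.range_ι
    rw [this]
    rfl
  have hr := range_tensorHom_left (j ≫ u) (j ≫ u)
  have hwr : w ∈ Set.range ((j ≫ u) ⊗ₘ (j ≫ u)).left := by
    rw [hr]
    refine ⟨?_, ?_⟩
    · change (fst H H).left.base w ∈ Set.range (j ≫ u).left.base
      rw [hrange]; exact hw1
    · change (snd H H).left.base w ∈ Set.range (j ≫ u).left.base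
      rw [hrange]; exact hw2
  obtain ⟨z', hz'⟩ := hwr
  let z : (G ⊗ G).left := (j ⊗ₘ j).left.base z'
  have hz1 : (fst G G).left.base z ∈ irreducibleComponent (η[G].left.base pt) := by
    change (fst G G).left.base ((j ⊗ₘ j).left.base z') ∈ _
    rw [← Scheme.Hom.comp_apply, ← Over.comp_left, tensorHom_fst, Over.comp_left,
      Scheme.Hom.comp_apply]
    exact ((fst G0O G0O).left.base z').2
  have hz2 : (snd G G).left.base z ∈ irreducibleComponent (η[G].left.base pt) := by
    change (snd G G).left.base ((j ⊗ₘ j).left.base z') ∈ _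
    rw [← Scheme.Hom.comp_apply, ← Over.comp_left, tensorHom_snd, Over.comp_left,
      Scheme.Hom.comp_apply]
    exact ((snd G0O G0O).left.base z').2
  refine ⟨μ[G].left.base z, mul_mem_unitComponent pt z hz1 hz2, ?_⟩
  have hzw : (u ⊗ₘ u).left.base z = w := by
    change (u ⊗ₘ u).left.base ((j ⊗ₘ j).left.base z') = w
    rw [← Scheme.Hom.comp_apply, ← Over.comp_left, tensorHom_comp_tensorHom]
    exact hz'
  rw [← Scheme.Hom.comp_apply, ← Over.comp_left, IsMonHom.mul_hom, Over.comp_left,
    Scheme.Hom.comp_apply, hzw]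
  exact hw3

end field

section top

/-- an embedding maps connected components onto connected components of its range -/
theorem image_connectedComponent_of_isEmbedding {X Y : Type*} [TopologicalSpace X]
    [TopologicalSpace Y] {f : X → Y} (hf : Topology.IsEmbedding f) (z : X) :
    f '' connectedComponent z = connectedComponentIn (Set.range f) (f z) := by
  apply Set.Subset.antisymm
  · exact (isPreconnected_connectedComponent.image f hf.continuous.continuousOn
      ).subset_connectedComponentIn ⟨z, mem_connectedComponent, rfl⟩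
      (Set.image_subset_range _ _)
  · intro y hy
    have hC : IsPreconnected (connectedComponentIn (Set.range f) (f z)) :=
      isPreconnected_connectedComponentIn
    have hsub : connectedComponentIn (Set.range f) (f z) ⊆ Set.range f :=
      connectedComponentIn_subset _ _
    have hpre : IsPreconnected (f ⁻¹' connectedComponentIn (Set.range f) (f z)) := by
      rw [← hf.isInducing.isPreconnected_image, Set.image_preimage_eq_inter_range,
        Set.inter_eq_left.2 hsub]
      exact hC
    have hz : z ∈ f ⁻¹' connectedComponentIn (Set.range f) (f z) :=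
      mem_connectedComponentIn ⟨z, rfl⟩
    obtain ⟨x, rfl⟩ := hsub hy
    exact ⟨x, hpre.subset_connectedComponent hz hy, rfl⟩

end top

section general

variable {S : Scheme.{u}}

/-- the residue field at `s`, as a type -/
abbrev resκ (s : S) : Type u := S.residueField s

/-- the inclusion of the point `s` -/
noncomputable abbrev gs (s : S) : Spec (CommRingCat.of (resκ s)) ⟶ S := S.fromSpecResidueField s

/-- the fibre of `G` at `s` -/
noncomputable abbrev fib (G : Over S) (s : S) : Over (Spec (CommRingCat.of (resκ s))) :=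
  Red.bc (gs s) G

variable (G : Over S) [GrpObj G]

instance : IsIso (𝟙_ (Over S)).hom := by
  rw [Over.tensorUnit_hom]; exact IsIso.id _

theorem unit_hom_injective : Function.Injective (𝟙_ (Over S)).hom.base :=
  (𝟙_ (Over S)).hom.homeomorph.injective

theorem exists_unit_point (s : S) : ∃ p : ↥(𝟙_ (Over S)).left, (𝟙_ (Over S)).hom.base p = s :=
  (𝟙_ (Over S)).hom.homeomorph.surjective s

theorem fst_unit_fib (s : S) (pt : ↥(𝟙_ (Over (Spec (CommRingCat.of (resκ s))))).left)
    (p : ↥(𝟙_ (Over S)).left) (hp : (𝟙_ (Over S)).hom.base p = s) :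
    (pullback.fst G.hom (gs s)).base (η[fib G s].left.base pt) = η[G].left.base p := by
  rw [← Scheme.Hom.comp_apply, bc_unit_fst, Scheme.Hom.comp_apply, Scheme.Hom.comp_apply]
  congr 1
  apply unit_hom_injective
  rw [hp, ← Scheme.Hom.comp_apply, pullback.condition, Scheme.Hom.comp_apply]
  exact Scheme.fromSpecResidueField_apply _ _

theorem image_unitComponent_fib (s : S)
    (pt : ↥(𝟙_ (Over (Spec (CommRingCat.of (resκ s))))).left)
    (p : ↥(𝟙_ (Over S)).left) (hp : (𝟙_ (Over S)).hom.base p = s) :
    (pullback.fst G.hom (gs s)).base '' connectedComponent (η[fib G s].left.base pt) =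
      connectedComponentIn (G.hom.base ⁻¹' {s}) (η[G].left.base p) := by
  have hemb : Topology.IsEmbedding (pullback.fst G.hom (gs s)).base :=
    (G.hom.fiberι s).isEmbedding
  rw [image_connectedComponent_of_isEmbedding hemb, fst_unit_fib G s pt p hp]
  congr 1
  exact G.hom.range_fiberι s

theorem mem_neutralSet_iff (x : G.left) :
    x ∈ SGA3x.neutralSet G ↔ ∃ p : ↥(𝟙_ (Over S)).left,
      (𝟙_ (Over S)).hom.base p = G.hom.base x ∧
      x ∈ connectedComponentIn (G.hom.base ⁻¹' {G.hom.base x}) (η[G].left.base p) := by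
  unfold SGA3x.neutralSet
  rw [Set.mem_iUnion]
  constructor
  · rintro ⟨p, hp⟩
    have h1 : x ∈ G.hom.base ⁻¹' {(𝟙_ (Over S)).hom.base p} := connectedComponentIn_subset _ _ hp
    have h2 : G.hom.base x = (𝟙_ (Over S)).hom.base p := h1
    refine ⟨p, h2.symm, ?_⟩
    rw [h2]
    exact hp
  · rintro ⟨p, hp1, hp2⟩
    refine ⟨p, ?_⟩
    rw [hp1]
    exact hp2

variable {G} {H : Over S} [GrpObj H]

theorem image_neutralSet_subset (u : G ⟶ H) [IsMonHom u] :
    u.left.base '' SGA3x.neutralSet G ⊆ SGA3x.neutralSet H := by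
  rintro _ ⟨x, hx, rfl⟩
  rw [mem_neutralSet_iff] at hx ⊢
  obtain ⟨p, hp1, hp2⟩ := hx
  have hHx : H.hom.base (u.left.base x) = G.hom.base x := by
    rw [← Scheme.Hom.comp_apply, Over.w u]
  refine ⟨p, by rw [hHx, hp1], ?_⟩
  rw [hHx]
  have hpre : _root_.IsPreconnected (u.left.base ''
      connectedComponentIn (G.hom.base ⁻¹' {G.hom.base x}) (η[G].left.base p)) :=
    isPreconnected_connectedComponentIn.image _ u.left.continuous.continuousOn
  have hunit : u.left.base (η[G].left.base p) = η[H].left.base p := by
    rw [← Scheme.Hom.comp_apply, ← Over.comp_left, IsMonHom.one_hom]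
  have hmemG : η[G].left.base p ∈ G.hom.base ⁻¹' {G.hom.base x} := by
    change G.hom.base (η[G].left.base p) = _
    rw [← Scheme.Hom.comp_apply, Over.w η[G], hp1]
  refine hpre.subset_connectedComponentIn ⟨_, mem_connectedComponentIn hmemG, hunit⟩ ?_
    ⟨x, hp2, rfl⟩
  rintro _ ⟨y, hy, rfl⟩
  have hy'' : y ∈ G.hom.base ⁻¹' {G.hom.base x} := connectedComponentIn_subset _ _ hy
  have hy' : G.hom.base y = G.hom.base x := hy''
  change H.hom.base (u.left.base y) = G.hom.base x
  rw [← Scheme.Hom.comp_apply, Over.w u]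
  exact hy'

theorem hom_fst_fib (s : S) (z : ↥(fib G s).left) :
    G.hom.base ((pullback.fst G.hom (gs s)).base z) = s := by
  rw [← Scheme.Hom.comp_apply, pullback.condition, Scheme.Hom.comp_apply]
  exact Scheme.fromSpecResidueField_apply _ _

theorem neutralSet_subset_image_of_flat [LocallyOfFinitePresentation G.hom]
    [LocallyOfFiniteType H.hom] (u : G ⟶ H) [IsMonHom u] [Flat u.left] :
    SGA3x.neutralSet H ⊆ u.left.base '' SGA3x.neutralSet G := by
  intro h hh
  rw [mem_neutralSet_iff] at hh
  obtain ⟨p, hp1, hp2⟩ := hh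
  generalize hs : H.hom.base h = s at hp1 hp2
  have hne : Nonempty ↥(𝟙_ (Over (Spec (CommRingCat.of (resκ s))))).left :=
    inferInstanceAs (Nonempty (PrimeSpectrum (resκ s)))
  obtain ⟨pt⟩ := hne
  rw [← image_unitComponent_fib H s pt p hp1] at hp2
  obtain ⟨hs', hhs, rfl⟩ := hp2
  rw [connectedComponent_unit pt] at hhs
  let us : fib G s ⟶ fib H s := (Over.pullback (gs s)).map u
  have sq := Groth.Agent.Lib.Helper24.HomogSep.isPullback_pullback_map (gs s) u
  haveI : LocallyOfFinitePresentation u.left :=
    Groth.Agent.Lib.Helper4.CentralizerClosed.lfp_of_comp u.left H.hom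
      (by rw [Over.w u]; infer_instance) inferInstance
  haveI : Flat us.left := MorphismProperty.of_isPullback (P := @Flat) sq.flip inferInstance
  haveI : LocallyOfFinitePresentation us.left :=
    MorphismProperty.of_isPullback (P := @LocallyOfFinitePresentation) sq.flip inferInstance
  haveI : LocallyOfFiniteType (fib G s).hom :=
    inferInstanceAs (LocallyOfFiniteType (pullback.snd G.hom (gs s)))
  obtain ⟨g', hg1, hg2⟩ :=
    unitComponent_subset_image_of_isOpenMap us us.left.isOpenMap pt hhs
  refine ⟨(pullback.fst G.hom (gs s)).base g', ?_, ?_⟩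
  · rw [mem_neutralSet_iff]
    have hGs := hom_fst_fib (G := G) s g'
    refine ⟨p, by rw [hGs]; exact hp1, ?_⟩
    rw [hGs, ← image_unitComponent_fib G s pt p hp1, connectedComponent_unit pt]
    exact ⟨g', hg1, rfl⟩
  · rw [← Scheme.Hom.comp_apply, ← sq.w, Scheme.Hom.comp_apply]
    exact congrArg _ hg2

/-- if `u(G⁰) ⊇ H⁰` and the fibre `H_s` is reduced then `u_s` is flat -/
theorem flat_fib_of_image_neutralSet (u : G ⟶ H) [IsMonHom u]
    (himg : SGA3x.neutralSet H ⊆ u.left.base '' SGA3x.neutralSet G) (s : S)
    (hred : IsReduced (H.hom.fiber s)) :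
    Flat ((Over.pullback (gs s)).map u).left := by
  let us : fib G s ⟶ fib H s := (Over.pullback (gs s)).map u
  have sq := Groth.Agent.Lib.Helper24.HomogSep.isPullback_pullback_map (gs s) u
  have hne : Nonempty ↥(𝟙_ (Over (Spec (CommRingCat.of (resκ s))))).left :=
    inferInstanceAs (Nonempty (PrimeSpectrum (resκ s)))
  obtain ⟨pt⟩ := hne
  obtain ⟨p, hp⟩ := exists_unit_point (S := S) s
  obtain ⟨ξ, -, hξ⟩ := exists_generic_specializes (η[fib H s].left.base pt)
  have hξmem : ξ ∈ irreducibleComponent (η[fib H s].left.base pt) := by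
    have : ξ ∈ closure ({ξ} : Set ↥(fib H s).left) := subset_closure rfl
    rwa [hξ.def] at this
  have hmax : ∀ ν : ↥(fib H s).left, ν ⤳ ξ → ν = ξ := fun ν h =>
    eq_of_specializes_generic (irreducibleComponent_mem_irreducibleComponents _) hξ h
  -- `ξ` lies over a point of `H⁰`
  have h1 : (pullback.fst H.hom (gs s)).base ξ ∈ SGA3x.neutralSet H := by
    rw [mem_neutralSet_iff]
    have hHs := hom_fst_fib (G := H) s ξ
    refine ⟨p, by rw [hHs]; exact hp, ?_⟩
    rw [hHs, ← image_unitComponent_fib H s pt p hp, connectedComponent_unit pt]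
    exact ⟨ξ, hξmem, rfl⟩
  obtain ⟨g, -, hg⟩ := himg h1
  have hgs : G.hom.base g = s := by
    have : H.hom.base (u.left.base g) = s := by rw [hg]; exact hom_fst_fib (G := H) s ξ
    rwa [← Scheme.Hom.comp_apply, Over.w u] at this
  let o : ↥(Spec (CommRingCat.of (resκ s))) := IsLocalRing.closedPoint (resκ s)
  have hgo : (gs s).base o = s := Scheme.fromSpecResidueField_apply _ _
  obtain ⟨g', hg'1, -⟩ := Scheme.Pullback.exists_preimage_pullback (f := G.hom) (g := gs s) g o
    (by rw [hgo, hgs])
  have hinj : Function.Injective (pullback.fst H.hom (gs s)).base :=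
    (H.hom.fiberι s).isEmbedding.injective
  have hus : us.left.base g' = ξ := by
    apply hinj
    rw [← Scheme.Hom.comp_apply, sq.w, Scheme.Hom.comp_apply, hg'1, hg]
  haveI : IsReduced (fib H s).left := hred
  have hfield := isField_stalk_of_maximal (us.left.base g') (by rw [hus]; exact hmax)
  haveI : Flat (fib G s).hom := inferInstance
  exact Groth.Agent.Lib.Helper24.PtFlat.flat_hom_of_flat_at_point us g'
    (flat_of_isField _ hfield)

/-- the fibre map of the Prelude is flat when `u_s` is -/
theorem flat_fiberMap (u : G ⟶ H) (s : S)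
    (h : Flat ((Over.pullback (gs s)).map u).left) :
    Flat (MoreMor.fiberMap u.left H.hom s) := by
  let us : fib G s ⟶ fib H s := (Over.pullback (gs s)).map u
  let e₁ : (u.left ≫ H.hom).fiber s ≅ pullback G.hom (gs s) :=
    pullback.congrHom (Over.w u) rfl
  have heq : MoreMor.fiberMap u.left H.hom s = e₁.hom ≫ us.left := by
    apply pullback.hom_ext
    · unfold MoreMor.fiberMap
      rw [pullback.lift_fst, Category.assoc]
      have h1 : us.left ≫ pullback.fst H.hom (gs s) = pullback.fst G.hom (gs s) ≫ u.left :=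
        ActBC.pullback_map_left_fst (gs s) u
      rw [h1, ← Category.assoc]
      congr 1
      exact ((pullback.lift_fst _ _ _).trans (Category.comp_id _)).symm
    · unfold MoreMor.fiberMap
      rw [pullback.lift_snd, Category.assoc]
      have h2 : us.left ≫ pullback.snd H.hom (gs s) = pullback.snd G.hom (gs s) :=
        Over.w us
      rw [h2]
      exact ((pullback.lift_snd _ _ _).trans (Category.comp_id _)).symm
  let f' : pullback G.hom (gs s) ⟶ H.hom.fiber s := us.left
  have heq' : MoreMor.fiberMap u.left H.hom s = e₁.hom ≫ f' := heq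
  rw [heq']
  haveI : Flat f' := h
  infer_instance

/-- **SGA3 VI_B 3.11, converse.** -/
theorem flat_of_image_neutralSet [Flat G.hom] [LocallyOfFinitePresentation G.hom]
    [LocallyOfFiniteType H.hom] (u : G ⟶ H) [IsMonHom u]
    (hred : ∀ s : S, IsReduced (H.hom.fiber s))
    (himg : SGA3x.neutralSet H ⊆ u.left.base '' SGA3x.neutralSet G) : Flat u.left := by
  haveI : LocallyOfFinitePresentation (u.left ≫ H.hom) := by rw [Over.w u]; infer_instance
  haveI : Flat (u.left ≫ H.hom) := by rw [Over.w u]; infer_instance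
  rw [Flat.iff_flat_stalkMap]
  intro x
  have hcrit := Groth.Agent.S1386.pointwise u.left H.hom x
  have hfib : Flat (MoreMor.fiberMap u.left H.hom (H.hom.base (u.left.base x))) :=
    flat_fiberMap u _ (flat_fib_of_image_neutralSet u himg _ (hred _))
  exact (hcrit.1 ⟨(Flat.iff_flat_stalkMap _).1 inferInstance x,
    (Flat.iff_flat_stalkMap _).1 hfib _⟩).2

end general

end Groth.Agent.Lib.Helper24.NFT
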