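import Mathlib
import Groth.Agent.Lib.Helper24.NFT.Neutral
import Groth.Agent.Lib.Helper18.SecComp.BaseChange

/-!
# The neutral components commute with base change (SGA3 VI_B 3.3)
-/

set_option autoImplicit false
universe u

open CategoryTheory MonoidalCategory CartesianMonoidalCategory MonObj GrpObj AlgebraicGeometry Limits

namespace Groth.Agent.Lib.Helper24.NFT

variable {S : Scheme.{u}} (G : Over S) [GrpObj G]

/-- the unit section as a morphism from the base -/
noncomputable def unitSec : S ⟶ G.left := η[G].left

theorem unitSec_hom : unitSec G ≫ G.hom = 𝟙 S := Over.w η[G]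

/-- the neutral set is the union of the components of the unit section in the fibres -/
theorem neutralSet_eq_sectionComponents :
    SGA3x.neutralSet G = MoreMor.sectionComponents G.hom (unitSec G) := by
  ext x
  rw [mem_neutralSet_iff]
  change _ ↔ x ∈ connectedComponentIn (G.hom.base ⁻¹' {G.hom.base x})
    ((unitSec G).base (G.hom.base x))
  constructor
  · rintro ⟨p, hp1, hp2⟩
    have hp : p = G.hom.base x := by
      have : (𝟙_ (Over S)).hom.base p = p := by
        rw [Over.tensorUnit_hom]; rfl
      rw [← this]; exact hp1
    have h3 : (unitSec G).base (G.hom.base x) = η[G].left.base p := by rw [← hp]; rfl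
    rw [h3]
    exact hp2
  · intro h
    refine ⟨G.hom.base x, ?_, h⟩
    rw [Over.tensorUnit_hom]; rfl

variable {S' : Scheme.{u}} (f : S' ⟶ S)

theorem unitSec_bc_fst : unitSec (Red.bc f G) ≫ pullback.fst G.hom f = f ≫ unitSec G := by
  unfold unitSec
  rw [bc_unit_fst]
  have h1 : (Functor.LaxMonoidal.ε (Over.pullback f)).left ≫
      pullback.snd (𝟙_ (Over S)).hom f = 𝟙 S' :=
    Over.w (Functor.LaxMonoidal.ε (Over.pullback f))
  have h2 : pullback.fst (𝟙_ (Over S)).hom f = pullback.snd (𝟙_ (Over S)).hom f ≫ f := by
    have := pullback.condition (f := (𝟙_ (Over S)).hom) (g := f)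
    rw [← this, Over.tensorUnit_hom]
    exact (Category.comp_id _).symm
  rw [h2, Category.assoc, reassoc_of% h1]
  exact Category.id_comp _

/-- **SGA3 VI_B 3.3**: the formation of the neutral components commutes with base change -/
theorem neutralSet_bc :
    SGA3x.neutralSet (Red.bc f G) = (pullback.fst G.hom f).base ⁻¹' SGA3x.neutralSet G := by
  rw [neutralSet_eq_sectionComponents, neutralSet_eq_sectionComponents]
  exact Groth.Agent.Lib.Helper18.SecComp.sectionComponents_baseChange G.hom (unitSec G)
    (unitSec_hom G) (pullback.snd G.hom f) (pullback.fst G.hom f) f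
    (IsPullback.of_hasPullback G.hom f) (unitSec (Red.bc f G)) (unitSec_hom (Red.bc f G))
    (unitSec_bc_fst G f)

end Groth.Agent.Lib.Helper24.NFT
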