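import Mathlib
import Groth.Agent.Lib.Helper24.NFT.BC
import Groth.Agent.Lib.Helper24.NFT.Dense
import Groth.Agent.Lib.Helper24.HomogSep.FieldCase

/-!
# The product of a nonempty open and a dense open of a group scheme over a field is everything
-/

set_option autoImplicit false
universe u

open CategoryTheory MonoidalCategory CartesianMonoidalCategory MonObj GrpObj AlgebraicGeometry Limits

namespace Groth.Agent.Lib.Helper24.NFT

open Groth.Agent.Lib.Helper4.ActShear Groth.Agent.Lib.Helper4.ActShear2
open Groth.Agent.Lib.Helper24.HomogSep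

/-- over an algebraically closed field, a rational point is the product of a point of a nonempty
open and a point of a dense open -/
theorem ratPt_mem_smulSet {L : Type u} [Field L] [IsAlgClosed L]
    (G : Over (Spec (CommRingCat.of L))) [GrpObj G] [LocallyOfFiniteType G.hom]
    (x : 𝟙_ (Over (Spec (CommRingCat.of L))) ⟶ G)
    (pt : ↥(𝟙_ (Over (Spec (CommRingCat.of L)))).left) (U U' : G.left.Opens)
    (hU : (U : Set G.left).Nonempty) (hU' : Dense (U' : Set G.left)) :
    x.left.base pt ∈ smulSet (selfAct G) (U : Set G.left) (U' : Set G.left) := by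
  let W : G.left.Opens := ι[G].left ⁻¹ᵁ U
  have hii : ι[G].left ≫ ι[G].left = 𝟙 _ := by
    rw [← Over.comp_left, GrpObj.inv_comp_inv]; rfl
  have hW : (W : Set G.left).Nonempty := by
    obtain ⟨u, hu⟩ := hU
    refine ⟨ι[G].left.base u, ?_⟩
    change ι[G].left.base (ι[G].left.base u) ∈ U
    rw [← Scheme.Hom.comp_apply, hii]
    exact hu
  obtain ⟨g, hg⟩ := exists_point_translate G G (selfAct G) (surjective_selfAct G) x x W hW U' hU'
  obtain ⟨h1, h2, -⟩ := hg pt
  exact mem_smulSet_of_inv (selfAct G) x pt (g.left.base pt) h1 h2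

variable {k : Type u} [Field k]

/-- over a field, every point is the product of a point of a nonempty open and a point of a dense
open -/
theorem mem_smulSet_of_dense (G : Over (Spec (CommRingCat.of k))) [GrpObj G]
    [LocallyOfFiniteType G.hom] (U U' : G.left.Opens)
    (hU : (U : Set G.left).Nonempty) (hU' : Dense (U' : Set G.left)) (x : G.left) :
    x ∈ smulSet (selfAct G) (U : Set G.left) (U' : Set G.left) := by
  obtain ⟨L, _, _, _, xt, ptL, hxt⟩ := exists_ratPt G x
  let σ := Spec.map (CommRingCat.ofHom (algebraMap k L))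
  let p := pullback.fst G.hom σ
  haveI : Nonempty ↥(Spec (CommRingCat.of L)) := inferInstanceAs (Nonempty (PrimeSpectrum L))
  haveI : Surjective σ := surjective_of_nonempty σ
  haveI : Surjective p := inferInstanceAs (Surjective (pullback.fst G.hom σ))
  haveI : UniversallyOpen p := inferInstanceAs (UniversallyOpen (pullback.fst G.hom σ))
  haveI : LocallyOfFiniteType (Red.bc σ G).hom :=
    inferInstanceAs (LocallyOfFiniteType (pullback.snd G.hom σ))
  let UL : (Red.bc σ G).left.Opens := p ⁻¹ᵁ U
  let UL' : (Red.bc σ G).left.Opens := p ⁻¹ᵁ U'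
  have hUL : (UL : Set (Red.bc σ G).left).Nonempty := by
    obtain ⟨u, hu⟩ := hU
    obtain ⟨u', rfl⟩ := p.surjective u
    exact ⟨u', hu⟩
  have hUL' : Dense (UL' : Set (Red.bc σ G).left) := hU'.preimage p.isOpenMap
  have h1 := ratPt_mem_smulSet (Red.bc σ G) xt ptL UL UL' hUL hUL'
  have h1' : xt.left.base ptL ∈ smulSet ((selfAct G).bc σ) (UL : Set (Red.bc σ G).left)
      (UL' : Set (Red.bc σ G).left) := h1
  have h2 := image_smulSet_bc_subset σ (selfAct G) _ _ ⟨_, h1', hxt⟩
  refine smulSet_mono (selfAct G) ?_ ?_ h2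
  · rintro _ ⟨c, hc, rfl⟩
    exact hc
  · rintro _ ⟨c, hc, rfl⟩
    exact hc

end Groth.Agent.Lib.Helper24.NFT
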