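import Mathlib
import Groth.Agent.Lib.Helper24.NFT.OrbitClosed

/-!
# SGA3 VI_A 2.6.6: the orbit map of a rational point maps the unit component onto the
connected component
-/

set_option autoImplicit false
universe u

open CategoryTheory MonoidalCategory CartesianMonoidalCategory MonObj GrpObj AlgebraicGeometry Limits

namespace Groth.Agent.Lib.Helper24.NFT

variable {k : Type u} [Field k] {G X : Over (Spec (CommRingCat.of k))} [GrpObj G]
  (a : AlgGrp.Action G X)

instance quasiSeparatedSpace_bc [QuasiSeparatedSpace X.left] {S' : Scheme.{u}} [IsAffine S']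
    (g : S' ⟶ Spec (CommRingCat.of k)) : QuasiSeparatedSpace ↥(Red.bc g X).left := by
  haveI : QuasiSeparated X.hom := (quasiSeparated_iff_quasiSeparatedSpace X.hom).mpr inferInstance
  haveI : QuasiSeparated (pullback.snd X.hom g) := inferInstance
  exact quasiSeparatedSpace_of_quasiSeparated (pullback.snd X.hom g)

/-- every point of the irreducible component of a rational point `x` is a translate of `x` by a
point of the unit component -/
theorem mem_smulSet_singleton [QuasiSeparatedSpace X.left]
    (hΦ : Surjective (lift a.act (snd G X)).left)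
    (x : 𝟙_ (Over (Spec (CommRingCat.of k))) ⟶ X)
    (pt : ↥(𝟙_ (Over (Spec (CommRingCat.of k)))).left) (z : X.left)
    (hz : z ∈ irreducibleComponent (x.left.base pt)) :
    z ∈ smulSet a (irreducibleComponent (η[G].left.base pt)) {x.left.base pt} := by
  obtain ⟨L, _, _, _, zt, ptL, hzt⟩ := exists_ratPt X z
  let g := Spec.map (CommRingCat.ofHom (algebraMap k L))
  have hΦ' := Groth.Agent.Lib.Helper24.HomogSep.surjective_bc g a hΦ
  let p := pullback.fst X.hom g
  let xt : 𝟙_ (Over (Spec (CommRingCat.of L))) ⟶ Red.bc g X :=
    Over.homMk (ratLift X.hom x.left (Over.w x) L) (ratLift_snd X.hom x.left (Over.w x) L)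
  have hxt : p.base (xt.left.base ptL) = x.left.base pt := by
    change (pullback.fst X.hom g).base ((ratLift X.hom x.left (Over.w x) L).base ptL) = _
    rw [← Scheme.Hom.comp_apply, ratLift_fst, Scheme.Hom.comp_apply]
    congr 1
    exact Subsingleton.elim _ _
  have hirr := isIrreducible_preimage_component a hΦ x pt L
  have hz' : zt.left.base ptL ∈ irreducibleComponent (xt.left.base ptL) := by
    apply (uic (a.bc g) hΦ' _).subset_irreducibleComponent hirr
    · change p.base (xt.left.base ptL) ∈ irreducibleComponent (x.left.base pt)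
      rw [hxt]; exact mem_irreducibleComponent
    · change p.base (zt.left.base ptL) ∈ irreducibleComponent (x.left.base pt)
      rw [hzt]; exact hz
  have h1 := mem_smulSet_singleton_of_rational (a.bc g) hΦ' xt zt ptL hz'
  have h2 := image_smulSet_bc_subset g a _ _ ⟨_, h1, hzt⟩
  refine smulSet_mono a (image_unitComponent_bc_subset pt L ptL) ?_ h2
  rintro _ ⟨_, rfl, rfl⟩
  exact hxt

/-- **SGA3 VI_A 2.6.6** -/
theorem image_unitComponent_orbitMap [QuasiSeparatedSpace X.left]
    (hΦ : Surjective (lift a.act (snd G X)).left)
    (x : 𝟙_ (Over (Spec (CommRingCat.of k))) ⟶ X)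
    (pt : ↥(𝟙_ (Over (Spec (CommRingCat.of k)))).left) :
    (a.orbitMap x).left.base '' irreducibleComponent (η[G].left.base pt) =
      connectedComponent (x.left.base pt) := by
  rw [connectedComponent_eq_irreducibleComponent a hΦ]
  apply subset_antisymm
  · apply (uic a hΦ _).subset_irreducibleComponent
      (isIrreducible_irreducibleComponent.image _ (Scheme.Hom.continuous _).continuousOn)
    exact ⟨_, mem_irreducibleComponent, orbitMap_unit a x pt⟩
  · intro z hz
    exact smulSet_singleton_subset a x pt _ (mem_smulSet_singleton a hΦ x pt z hz)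

end Groth.Agent.Lib.Helper24.NFT
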