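import Mathlib
import Groth.Agent.Lib.Helper24.NFT.HomSurj

/-!
# Every point of a group scheme over a field is a product of two maximal points (SGA3 VI_A 0.5)
-/

set_option autoImplicit false
universe u

open CategoryTheory MonoidalCategory CartesianMonoidalCategory MonObj GrpObj AlgebraicGeometry Limits

namespace Groth.Agent.Lib.Helper24.NFT

open Groth.Agent.Lib.Helper4.ActShear Groth.Agent.Lib.Helper4.ActShear2

/-- the closure of a point without proper generizations is an irreducible component -/
theorem closure_mem_irreducibleComponents_of_maximal {X : Scheme.{u}} (p : X)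
    (hmax : ∀ ν : X, ν ⤳ p → ν = p) : closure {p} ∈ irreducibleComponents ↥X := by
  obtain ⟨ξ, h1, hξ⟩ := exists_generic_specializes p
  have : ξ = p := hmax ξ h1
  subst this
  rw [hξ.def]
  exact irreducibleComponent_mem_irreducibleComponents _

variable {k : Type u} [Field k] {G : Over (Spec (CommRingCat.of k))} [GrpObj G]

theorem exists_mul_eq_of_maximal_points (x : G.left) :
    ∃ z : ↥(G ⊗ G).left, μ[G].left.base z = x ∧
      closure {(fst G G).left.base z} ∈ irreducibleComponents ↥G.left ∧
      closure {(snd G G).left.base z} ∈ irreducibleComponents ↥G.left := by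
  let T := resT G x
  let xT : T ⟶ G := resPt G x
  let o : T.left := resO G x
  have ho : xT.left.base o = x := resPt_resO G x
  haveI : Subsingleton T.left :=
    inferInstanceAs (Subsingleton (PrimeSpectrum (G.left.residueField x)))
  obtain ⟨ξ, -, hξ⟩ := exists_generic_specializes (ptOf xT o)
  have hmaxξ : ∀ ν : (T ⊗ G).left, ν ⤳ ξ → ν = ξ := fun ν h =>
    eq_of_specializes_generic (irreducibleComponent_mem_irreducibleComponents _) hξ h
  let θ := invTrHomeo xT
  have hmaxξ' : ∀ ν : (T ⊗ G).left, ν ⤳ θ ξ → ν = θ ξ := by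
    intro ν h
    have h1 : θ.symm ν ⤳ θ.symm (θ ξ) := h.map θ.symm.continuous
    rw [θ.symm_apply_apply] at h1
    rw [← hmaxξ _ h1, θ.apply_symm_apply]
  -- maximal points map to maximal points under the flat projection
  have hmaxsnd : ∀ ζ : (T ⊗ G).left, (∀ ν : (T ⊗ G).left, ν ⤳ ζ → ν = ζ) →
      ∀ ν : G.left, ν ⤳ (snd T G).left.base ζ → ν = (snd T G).left.base ζ := by
    intro ζ hζ ν h
    obtain ⟨ζ', h1, h2⟩ := (Flat.generalizingMap (snd T G).left) h
    rw [← h2, hζ ζ' h1]
  let φ : T ⊗ G ⟶ G ⊗ G := lift (invTr xT ≫ snd T G) (snd T G)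
  have hφμ : φ ≫ μ[G] = fst T G ≫ xT := by
    change lift (invTr xT ≫ snd T G) (snd T G) ≫ μ[G] = _
    rw [← Hom.mul_def, invTr_snd, inv_mul_cancel_right]
  refine ⟨φ.left.base ξ, ?_, ?_, ?_⟩
  · rw [← Scheme.Hom.comp_apply, ← Over.comp_left, hφμ, Over.comp_left, Scheme.Hom.comp_apply,
      Subsingleton.elim ((fst T G).left.base ξ) o, ho]
  · apply closure_mem_irreducibleComponents_of_maximal
    rw [← Scheme.Hom.comp_apply, ← Over.comp_left, lift_fst, Over.comp_left,
      Scheme.Hom.comp_apply]
    exact hmaxsnd _ hmaxξ'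
  · apply closure_mem_irreducibleComponents_of_maximal
    rw [← Scheme.Hom.comp_apply, ← Over.comp_left, lift_snd]
    exact hmaxsnd _ hmaxξ

end Groth.Agent.Lib.Helper24.NFT
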