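import Mathlib
import Groth.Agent.Lib.Helper24.NFT.Neutral

/-!
# A quasi-compact open containing the neutral components (SGA3 VI_B 3.9)
-/

set_option autoImplicit false
universe u

open CategoryTheory MonoidalCategory CartesianMonoidalCategory MonObj GrpObj AlgebraicGeometry Limits

namespace Groth.Agent.Lib.Helper24.NFT

open Groth.Agent.Lib.Helper4.ActShear Groth.Agent.Lib.Helper4.ActShear2

variable {S : Scheme.{u}} {G X : Over S}

/-- over a quasi-separated base, a box of quasi-compact opens is quasi-compact -/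
theorem isCompact_box_of_quasiSeparated [QuasiSeparatedSpace S]
    (W : G.left.Opens) (V : X.left.Opens) (hW : IsCompact (W : Set G.left))
    (hV : IsCompact (V : Set X.left)) :
    IsCompact ((fst G X).left.base ⁻¹' (W : Set G.left) ∩
      (snd G X).left.base ⁻¹' (V : Set X.left)) := by
  let WO : Over S := Over.mk (W.ι ≫ G.hom)
  let VO : Over S := Over.mk (V.ι ≫ X.hom)
  let j₁ : WO ⟶ G := Over.homMk W.ι rfl
  let j₂ : VO ⟶ X := Over.homMk V.ι rfl
  haveI : CompactSpace W.toScheme := isCompact_iff_compactSpace.mp hW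
  haveI : CompactSpace V.toScheme := isCompact_iff_compactSpace.mp hV
  haveI : QuasiCompact (W.ι ≫ G.hom) := quasiCompact_of_compactSpace _
  haveI : CompactSpace ↥(pullback (W.ι ≫ G.hom) (V.ι ≫ X.hom)) :=
    QuasiCompact.compactSpace_of_compactSpace (pullback.snd (W.ι ≫ G.hom) (V.ι ≫ X.hom))
  haveI : CompactSpace ↥(WO ⊗ VO).left :=
    inferInstanceAs (CompactSpace ↥(pullback (W.ι ≫ G.hom) (V.ι ≫ X.hom)))
  have h := range_tensorHom_left j₁ j₂
  have h1 : Set.range j₁.left = (W : Set G.left) := W.range_ι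
  have h2 : Set.range j₂.left = (V : Set X.left) := V.range_ι
  rw [h1, h2] at h
  rw [← h]
  exact isCompact_range (j₁ ⊗ₘ j₂).left.continuous

variable [GrpObj G]

/-- a quasi-compact open neighbourhood of the unit section over a quasi-compact base -/
theorem exists_compact_open_unit' [CompactSpace S] :
    ∃ W : G.left.Opens, IsCompact (W : Set G.left) ∧
      ∀ p : ↥(𝟙_ (Over S)).left, η[G].left.base p ∈ W := by
  let E : Set G.left := Set.range η[G].left.base
  have hE : IsCompact E := by
    haveI : CompactSpace ↥(𝟙_ (Over S)).left :=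
      (𝟙_ (Over S)).hom.homeomorph.symm.surjective.compactSpace
        (𝟙_ (Over S)).hom.homeomorph.symm.continuous
    exact isCompact_range η[G].left.continuous
  have hEsub : ∀ e ∈ E, ∃ U : G.left.Opens, IsAffineOpen U ∧ e ∈ U := by
    intro e _
    obtain ⟨U, hU1, hU2, -⟩ := exists_isAffineOpen_mem_and_subset (x := e) (U := ⊤) trivial
    exact ⟨U, hU1, hU2⟩
  choose! Wf hWf1 hWf2 using hEsub
  obtain ⟨t, ht⟩ := hE.elim_nhds_subcover' (fun e _ => (Wf e : Set G.left))
    (fun e he => (Wf e).2.mem_nhds (hWf2 e he))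
  refine ⟨⟨⋃ x ∈ t, (Wf x.1 : Set G.left), isOpen_biUnion fun x _ => (Wf x.1).2⟩, ?_, ?_⟩
  · exact t.isCompact_biUnion fun x _ => (hWf1 x.1 x.2).isCompact
  · intro p
    exact ht ⟨p, rfl⟩

/-- the neutral set is contained in `W · W` for every open neighbourhood `W` of the unit section -/
theorem neutralSet_subset_smulSet (W : G.left.Opens)
    (hW : ∀ p : ↥(𝟙_ (Over S)).left, η[G].left.base p ∈ W) :
    SGA3x.neutralSet G ⊆ smulSet (selfAct G) (W : Set G.left) (W : Set G.left) := by
  intro x hx
  rw [mem_neutralSet_iff] at hx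
  obtain ⟨p, hp1, hp2⟩ := hx
  generalize hs : G.hom.base x = s at hp1 hp2
  have hne : Nonempty ↥(𝟙_ (Over (Spec (CommRingCat.of (resκ s))))).left :=
    inferInstanceAs (Nonempty (PrimeSpectrum (resκ s)))
  obtain ⟨pt⟩ := hne
  rw [← image_unitComponent_fib G s pt p hp1] at hp2
  obtain ⟨xs, hxs, rfl⟩ := hp2
  rw [connectedComponent_unit pt] at hxs
  let Ws : (fib G s).left.Opens := pullback.fst G.hom (gs s) ⁻¹ᵁ W
  have hWs : η[fib G s].left.base pt ∈ Ws := by
    change (pullback.fst G.hom (gs s)).base (η[fib G s].left.base pt) ∈ W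
    rw [fst_unit_fib G s pt p hp1]
    exact hW p
  have hcomp : irreducibleComponent xs = irreducibleComponent (η[fib G s].left.base pt) :=
    ((uic_grp xs).eq_irreducibleComponent
      (irreducibleComponent_mem_irreducibleComponents (η[fib G s].left.base pt)) hxs).symm
  have hU : ((Ws : Set (fib G s).left) ∩ irreducibleComponent xs).Nonempty :=
    ⟨η[fib G s].left.base pt, hWs, by rw [hcomp]; exact mem_irreducibleComponent⟩
  have hmem := mem_smulSet_of_component_meets' (selfAct (fib G s)) (surjective_selfAct _) pt Ws xs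
    hU Ws hWs
  have hmem' : xs ∈ smulSet ((selfAct G).bc (gs s)) (Ws : Set (fib G s).left)
      (Ws : Set (fib G s).left) :=
    smulSet_mono (selfAct (fib G s)) Set.inter_subset_right subset_rfl hmem
  have h2 := image_smulSet_bc_subset (gs s) (selfAct G) _ _ ⟨xs, hmem', rfl⟩
  refine smulSet_mono (selfAct G) ?_ ?_ h2
  · rintro _ ⟨c, hc, rfl⟩
    exact hc
  · rintro _ ⟨c, hc, rfl⟩
    exact hc

/-- **SGA3 VI_B 3.9**: over a quasi-compact quasi-separated base there is a quasi-compact open
containing the neutral components of all the fibres. -/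
theorem exists_compact_open_neutralSet [CompactSpace S] [QuasiSeparatedSpace S] :
    ∃ U : G.left.Opens, IsCompact (U : Set G.left) ∧ SGA3x.neutralSet G ⊆ U := by
  obtain ⟨W, hWc, hWe⟩ := exists_compact_open_unit' (G := G)
  have hbox := isCompact_box_of_quasiSeparated (G := G) (X := G) W W hWc hWc
  have hE : IsCompact (smulSet (selfAct G) (W : Set G.left) (W : Set G.left)) :=
    hbox.image (selfAct G).act.left.continuous
  have hEsub : ∀ e ∈ smulSet (selfAct G) (W : Set G.left) (W : Set G.left),
      ∃ U : G.left.Opens, IsAffineOpen U ∧ e ∈ U := by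
    intro e _
    obtain ⟨U, hU1, hU2, -⟩ := exists_isAffineOpen_mem_and_subset (x := e) (U := ⊤) trivial
    exact ⟨U, hU1, hU2⟩
  choose! Wf hWf1 hWf2 using hEsub
  obtain ⟨t, ht⟩ := hE.elim_nhds_subcover' (fun e _ => (Wf e : Set G.left))
    (fun e he => (Wf e).2.mem_nhds (hWf2 e he))
  refine ⟨⟨⋃ x ∈ t, (Wf x.1 : Set G.left), isOpen_biUnion fun x _ => (Wf x.1).2⟩, ?_, ?_⟩
  · exact t.isCompact_biUnion fun x _ => (hWf1 x.1 x.2).isCompact
  · intro x hx
    exact ht (neutralSet_subset_smulSet W hWe hx)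

end Groth.Agent.Lib.Helper24.NFT
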