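import Mathlib
import Groth.Agent.Lib.Helper24.NFT.QC
import Groth.Agent.Lib.Helper24.NFT.Conn
import Groth.Agent.Lib.Helper24.NFT.Dense
import Groth.Agent.Lib.Helper24.NFT.OrbitClosed
import Groth.Agent.Lib.Helper24.HomogSep.Main

/-!
# Separatedness of homogeneous spaces with irreducible fibres, without finiteness hypotheses on `X`
(SGA3 VI_B 5.3–5.5)
-/

set_option autoImplicit false
universe u

open CategoryTheory MonoidalCategory CartesianMonoidalCategory MonObj GrpObj AlgebraicGeometry Limits

namespace Groth.Agent.Lib.Helper24.NFT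

open Groth.Agent.Lib.Helper4.ActShear Groth.Agent.Lib.Helper4.ActShear2
open Groth.Agent.Lib.Helper24.HomogSep Groth.Agent.Lib.Helper24.Orbit

section field

variable {K : Type u} [Field K] [IsAlgClosed K]

/-- moving two rational points into an open meeting their components by a common rational point of
the group, close to the unit -/
theorem exists_point_translate' (G X : Over (Spec (CommRingCat.of K))) [GrpObj G]
    [LocallyOfFiniteType G.hom] (a : AlgGrp.Action G X)
    (hΦ : Surjective (lift a.act (snd G X)).left)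
    (x y : 𝟙_ (Over (Spec (CommRingCat.of K))) ⟶ X)
    (pt : ↥(𝟙_ (Over (Spec (CommRingCat.of K)))).left)
    (W : G.left.Opens) (hW : η[G].left.base pt ∈ W) (U : X.left.Opens)
    (hUx : ((U : Set X.left) ∩ irreducibleComponent (x.left.base pt)).Nonempty)
    (hUy : ((U : Set X.left) ∩ irreducibleComponent (y.left.base pt)).Nonempty) :
    ∃ g : 𝟙_ (Over (Spec (CommRingCat.of K))) ⟶ G, ∀ t, g.left.base t ∈ W ∧
      (a.orbitMap x).left.base (g.left.base t) ∈ U ∧
      (a.orbitMap y).left.base (g.left.base t) ∈ U := by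
  set G0 := irreducibleComponent (η[G].left.base pt) with hG0
  have hirr : IsPreirreducible G0 := isIrreducible_irreducibleComponent.isPreirreducible
  have key : ∀ v : 𝟙_ (Over (Spec (CommRingCat.of K))) ⟶ X,
      ((U : Set X.left) ∩ irreducibleComponent (v.left.base pt)).Nonempty →
      (G0 ∩ (a.orbitMap v).left.base ⁻¹' (U : Set X.left)).Nonempty := by
    intro v ⟨u, huU, huc⟩
    have hcl := subset_closure_orbit a hΦ v pt huc
    rw [mem_closure_iff] at hcl
    obtain ⟨_, hu1, ⟨g, hg, rfl⟩⟩ := hcl U U.2 huU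
    exact ⟨g, hg, hu1⟩
  have hopx : IsOpen ((a.orbitMap x).left.base ⁻¹' (U : Set X.left)) :=
    U.2.preimage (a.orbitMap x).left.continuous
  have hopy : IsOpen ((a.orbitMap y).left.base ⁻¹' (U : Set X.left)) :=
    U.2.preimage (a.orbitMap y).left.continuous
  have h1 : (G0 ∩ ((a.orbitMap y).left.base ⁻¹' (U : Set X.left) ∩ (W : Set G.left))).Nonempty :=
    hirr _ _ hopy W.2 (key y hUy) ⟨_, mem_irreducibleComponent, hW⟩
  obtain ⟨p, -, hpx, hpy, hpW⟩ := hirr _ _ hopx (hopy.inter W.2) (key x hUx) h1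
  let V : G.left.Opens := W ⊓ (⟨_, hopx⟩ ⊓ ⟨_, hopy⟩)
  obtain ⟨g₀, hg₀, hg₀V⟩ := Homog.exists_Kpoint_mem_open (k := K) (K := K) G.hom V
    ⟨p, hpW, hpx, hpy⟩
  have hid : Spec.map (CommRingCat.ofHom (algebraMap K K)) = 𝟙 (Spec (CommRingCat.of K)) := by
    change Spec.map (CommRingCat.ofHom (RingHom.id K)) = 𝟙 _
    exact Spec.map_id _
  rw [hid] at hg₀
  refine ⟨Over.homMk g₀ hg₀, fun t => ?_⟩
  obtain ⟨h1, h2, h3⟩ := hg₀V t
  exact ⟨h1, h2, h3⟩

end field

section fibre

variable {S : Scheme.{u}} (X : Over S)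

/-- if the fibre `X_s` is irreducible and meets the open `U`, then after base change to a field
`K` over `κ(s)` the preimage of `U` meets every irreducible component of `X_K` -/
theorem exists_mem_component_of_fibre (s : S) (K : Type u) [Field K]
    (ψ : S.residueField s ⟶ CommRingCat.of K)
    (hirr : IsPreirreducible (X.hom.base ⁻¹' {s})) (U : X.left.Opens)
    (hU : ((U : Set X.left) ∩ X.hom.base ⁻¹' {s}).Nonempty)
    (p : ↥(pullback X.hom (Spec.map ψ ≫ S.fromSpecResidueField s))) :
    (((pullback.fst X.hom (Spec.map ψ ≫ S.fromSpecResidueField s)) ⁻¹ᵁ U : Set _) ∩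
      irreducibleComponent p).Nonempty := by
  let gs : Spec (S.residueField s) ⟶ S := S.fromSpecResidueField s
  let t : Spec (CommRingCat.of K) ⟶ S := Spec.map ψ ≫ gs
  let q : pullback X.hom t ⟶ pullback X.hom gs :=
    pullback.lift (pullback.fst X.hom t) (pullback.snd X.hom t ≫ Spec.map ψ)
      (by rw [Category.assoc]; exact pullback.condition)
  have hq1 : q ≫ pullback.fst X.hom gs = pullback.fst X.hom t := pullback.lift_fst _ _ _
  have hq2 : q ≫ pullback.snd X.hom gs = pullback.snd X.hom t ≫ Spec.map ψ :=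
    pullback.lift_snd _ _ _
  have sq : IsPullback q (pullback.snd X.hom t) (pullback.snd X.hom gs) (Spec.map ψ) := by
    refine IsPullback.of_right ?_ hq2 (IsPullback.of_hasPullback X.hom gs)
    rw [hq1]
    exact IsPullback.of_hasPullback X.hom t
  haveI : Flat (Spec.map ψ) := inferInstance
  haveI : Flat q := MorphismProperty.of_isPullback (P := @Flat) sq.flip inferInstance
  -- the fibre is irreducible
  haveI : PreirreducibleSpace ↥(X.hom.base ⁻¹' {s}) := Subtype.preirreducibleSpace hirr
  haveI : PreirreducibleSpace ↥(pullback X.hom gs) :=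
    (X.hom.fiberHomeo s).symm.surjective.preirreducibleSpace (X.hom.fiberHomeo s).symm.continuous
  obtain ⟨u, huU, hus⟩ := hU
  let o : ↥(Spec (S.residueField s)) := IsLocalRing.closedPoint (S.residueField s)
  have hgo : gs.base o = s := Scheme.fromSpecResidueField_apply _ _
  obtain ⟨us, hus1, -⟩ := Scheme.Pullback.exists_preimage_pullback (f := X.hom) (g := gs) u o
    (by rw [hgo]; exact hus)
  haveI : Nonempty ↥(pullback X.hom gs) := ⟨us⟩
  haveI : IrreducibleSpace ↥(pullback X.hom gs) := { toNonempty := inferInstance }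
  -- the generic point of the component of `p`
  obtain ⟨ξ, -, hξ⟩ := exists_generic_specializes p
  have hmaxξ : ∀ ν : ↥(pullback X.hom t), ν ⤳ ξ → ν = ξ := fun ν h =>
    eq_of_specializes_generic (irreducibleComponent_mem_irreducibleComponents _) hξ h
  have hmaxq : ∀ ν : ↥(pullback X.hom gs), ν ⤳ q.base ξ → ν = q.base ξ := by
    intro ν h
    obtain ⟨ξ', h1, h2⟩ := (Flat.generalizingMap q) h
    rw [← h2, hmaxξ ξ' h1]
  have hζ : genericPoint ↥(pullback X.hom gs) = q.base ξ :=
    hmaxq _ (genericPoint_specializes _)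
  have hmem : q.base ξ ∈ ((pullback.fst X.hom gs) ⁻¹ᵁ U : Set ↥(pullback X.hom gs)) := by
    rw [← hζ]
    refine ((genericPoint_spec ↥(pullback X.hom gs)).mem_open_set_iff
      ((pullback.fst X.hom gs) ⁻¹ᵁ U).2).2 ⟨us, trivial, ?_⟩
    change (pullback.fst X.hom gs).base us ∈ U
    rw [hus1]
    exact huU
  refine ⟨ξ, ?_, ?_⟩
  · change (pullback.fst X.hom t).base ξ ∈ U
    rw [← hq1, Scheme.Hom.comp_apply]
    exact hmem
  · have : ξ ∈ closure ({ξ} : Set ↥(pullback X.hom t)) := subset_closure rfl
    rwa [hξ.def] at this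

end fibre

section main

variable {S : Scheme.{u}} {G X : Over S} [GrpObj G] (a : AlgGrp.Action G X)

/-- the key step: a point of the closure of the diagonal lies on the diagonal -/
theorem mem_range_diag' (W : G.left.Opens)
    (hW1 : ∀ p : ↥(𝟙_ (Over S)).left, η[G].left.base p ∈ W) [UniversallyOpen (W.ι ≫ G.hom)]
    [LocallyOfFiniteType G.hom]
    (hΦ : Surjective (lift a.act (snd G X)).left)
    (hirr : ∀ s : S, IsPreirreducible (X.hom.base ⁻¹' {s}))
    (z : (X ⊗ X).left) (hz : z ∈ closure (Set.range (HomogSep.diag X).left.base)) :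
    z ∈ Set.range (HomogSep.diag X).left.base := by
  have hD : IsStable (a.prod a) (Set.range (HomogSep.diag X).left.base) :=
    isStable_range_of_equivariant (a.prod a) a (HomogSep.diag X) (diag_equivariant a)
  set s : S := (X ⊗ X).hom.base z with hs
  obtain ⟨U, hUaff, hzU, -⟩ := exists_isAffineOpen_mem_and_subset
    (x := (fst X X).left.base z) (U := (⊤ : X.left.Opens)) trivial
  haveI : IsAffine U.toScheme := hUaff
  haveI hUsep : IsSeparated (U.ι ≫ X.hom) := inferInstance
  have hUne : ((U : Set X.left) ∩ X.hom.base ⁻¹' {s}).Nonempty := by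
    refine ⟨(fst X X).left.base z, hzU, ?_⟩
    change X.hom.base ((fst X X).left.base z) = s
    rw [← Scheme.Hom.comp_apply, Over.w (fst X X)]
  let κ := (X ⊗ X).left.residueField z
  let K := AlgebraicClosure κ
  let α : (X ⊗ X).left.residueField z ⟶ CommRingCat.of K :=
    CommRingCat.ofHom (algebraMap κ K)
  let ψ : S.residueField s ⟶ CommRingCat.of K := (X ⊗ X).hom.residueFieldMap z ≫ α
  let t : Spec (CommRingCat.of K) ⟶ S := Spec.map ψ ≫ S.fromSpecResidueField s
  let zb : Spec (CommRingCat.of K) ⟶ (X ⊗ X).left :=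
    Spec.map α ≫ (X ⊗ X).left.fromSpecResidueField z
  have hzb : zb ≫ (X ⊗ X).hom = t := by
    change (Spec.map α ≫ (X ⊗ X).left.fromSpecResidueField z) ≫ (X ⊗ X).hom =
      Spec.map ((X ⊗ X).hom.residueFieldMap z ≫ α) ≫ S.fromSpecResidueField s
    rw [Spec.map_comp, Category.assoc, Category.assoc,
      Scheme.Hom.SpecMap_residueFieldMap_fromSpecResidueField]
  let pt : ↥(Spec (CommRingCat.of K)) := IsLocalRing.closedPoint K
  have hzbpt : zb.base pt = z := by
    change (Spec.map α ≫ (X ⊗ X).left.fromSpecResidueField z).base pt = z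
    rw [Scheme.Hom.comp_apply]
    exact Scheme.fromSpecResidueField_apply _ _
  -- base change to `K`
  let GK : Over (Spec (CommRingCat.of K)) := Red.bc t G
  let XK : Over (Spec (CommRingCat.of K)) := Red.bc t X
  let aK : AlgGrp.Action GK XK := a.bc t
  haveI : LocallyOfFiniteType GK.hom :=
    inferInstanceAs (LocallyOfFiniteType (pullback.snd G.hom t))
  have hΦK : Surjective (lift aK.act (snd GK XK)).left := surjective_bc t a hΦ
  let T₀ : Over S := (Over.map t).obj (𝟙_ (Over (Spec (CommRingCat.of K))))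
  let z' : T₀ ⟶ X ⊗ X := Over.homMk zb (by
    change zb ≫ (X ⊗ X).hom = 𝟙 _ ≫ t
    rw [hzb, Category.id_comp])
  let x' : T₀ ⟶ X := z' ≫ fst X X
  let y' : T₀ ⟶ X := z' ≫ snd X X
  have hz'xy : z' = lift x' y' := by
    apply CartesianMonoidalCategory.hom_ext
    · rw [lift_fst]
    · rw [lift_snd]
  let xb : 𝟙_ (Over (Spec (CommRingCat.of K))) ⟶ XK :=
    (Over.mapPullbackAdj t).homEquiv _ X x'
  let yb : 𝟙_ (Over (Spec (CommRingCat.of K))) ⟶ XK :=
    (Over.mapPullbackAdj t).homEquiv _ X y'
  have hhe : ∀ (Y : Over S) (m : T₀ ⟶ Y),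
      ((Over.mapPullbackAdj t).homEquiv (𝟙_ (Over (Spec (CommRingCat.of K)))) Y m).left ≫
        pullback.fst Y.hom t = m.left := by
    intro Y m
    simp [Adjunction.homEquiv_unit]
    rw [pullback.lift_fst, pullback.lift_fst_assoc, Category.id_comp]
  let WK : GK.left.Opens := pullback.fst G.hom t ⁻¹ᵁ W
  let UK : XK.left.Opens := pullback.fst X.hom t ⁻¹ᵁ U
  have hWK : η[GK].left.base pt ∈ WK := by
    change (pullback.fst G.hom t).base (η[GK].left.base pt) ∈ W
    rw [← Scheme.Hom.comp_apply, bc_unit_fst, Scheme.Hom.comp_apply, Scheme.Hom.comp_apply]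
    exact hW1 _
  have hUx : ((UK : Set XK.left) ∩ irreducibleComponent (xb.left.base pt)).Nonempty :=
    exists_mem_component_of_fibre X s K ψ (hirr s) U hUne _
  have hUy : ((UK : Set XK.left) ∩ irreducibleComponent (yb.left.base pt)).Nonempty :=
    exists_mem_component_of_fibre X s K ψ (hirr s) U hUne _
  obtain ⟨gb, hgb⟩ := exists_point_translate' GK XK aK hΦK xb yb pt WK hWK UK hUx hUy
  obtain ⟨h1, h2, h3⟩ := hgb pt
  let g' : T₀ ⟶ G := ((Over.mapPullbackAdj t).homEquiv _ G).symm gb
  have hg' : (Over.mapPullbackAdj t).homEquiv _ G g' = gb := Equiv.apply_symm_apply _ _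
  -- the orbit maps
  have horb : ∀ (v' : T₀ ⟶ X),
      (pullback.fst X.hom t).base ((aK.orbitMap ((Over.mapPullbackAdj t).homEquiv _ X v')).left.base
        (gb.left.base pt)) = (lift g' v' ≫ a.act).left.base pt := by
    intro v'
    have e1 : gb ≫ aK.orbitMap ((Over.mapPullbackAdj t).homEquiv _ X v') =
        (Over.mapPullbackAdj t).homEquiv _ X (lift g' v' ≫ a.act) := by
      rw [AlgGrp.Action.comp_orbitMap, toUnit_unique (toUnit (𝟙_ (Over (Spec (CommRingCat.of K)))))
        (𝟙 _), Category.id_comp, ← hg']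
      exact AlgGrp.Action.lift_homEquiv_bc_act t a g' v'
    have e2 : (aK.orbitMap ((Over.mapPullbackAdj t).homEquiv _ X v')).left.base
        (gb.left.base pt) =
        (gb ≫ aK.orbitMap ((Over.mapPullbackAdj t).homEquiv _ X v')).left.base pt := rfl
    rw [e2, e1, ← Scheme.Hom.comp_apply, hhe]
  -- the point `w`
  let wb : T₀ ⟶ G ⊗ (X ⊗ X) := lift g' z'
  let w : (G ⊗ (X ⊗ X)).left := wb.left.base pt
  have hwsnd : (snd G (X ⊗ X)).left.base w = z := by
    change (wb ≫ snd G (X ⊗ X)).left.base pt = z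
    rw [lift_snd]
    exact hzbpt
  have hwfst : (fst G (X ⊗ X)).left.base w ∈ W := by
    change (wb ≫ fst G (X ⊗ X)).left.base pt ∈ W
    rw [lift_fst]
    have : g'.left = gb.left ≫ pullback.fst G.hom t := by
      change (((Over.mapPullbackAdj t).homEquiv _ G).symm gb).left = _
      simp [Adjunction.homEquiv_counit]
    rw [this, Scheme.Hom.comp_apply]
    exact h1
  have hwact : wb ≫ (a.prod a).act = lift (lift g' x' ≫ a.act) (lift g' y' ≫ a.act) := by
    change lift g' z' ≫ (a.prod a).act = _
    rw [hz'xy, AlgGrp.Action.lift_prod_act]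
  have hact1 : (fst X X).left.base ((a.prod a).act.left.base w) ∈ U := by
    change ((wb ≫ (a.prod a).act) ≫ fst X X).left.base pt ∈ U
    rw [hwact, lift_fst, ← horb x']
    exact h2
  have hact2 : (snd X X).left.base ((a.prod a).act.left.base w) ∈ U := by
    change ((wb ≫ (a.prod a).act) ≫ snd X X).left.base pt ∈ U
    rw [hwact, lift_snd, ← horb y']
    exact h3
  have hcl : (a.prod a).act.left.base w ∈ closure (Set.range (HomogSep.diag X).left.base) :=
    mem_closure_act_of_mem_closure_snd (a.prod a) hD W w hwfst (by rw [hwsnd]; exact hz)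
  have hmem : (a.prod a).act.left.base w ∈ Set.range (HomogSep.diag X).left.base :=
    mem_range_diag_of_mem_closure X U _ hcl hact1 hact2
  have hw' : w ∈ (a.prod a).act.left.base ⁻¹' Set.range (HomogSep.diag X).left.base := hmem
  rw [hD] at hw'
  rw [← hwsnd]
  exact hw'

/-- **SGA3 VI_B 5.3.** A homogeneous space with irreducible fibres is separated. -/
theorem isSeparated_of_irreducible_fibres [LocallyOfFiniteType G.hom]
    (hGo : ∃ W : G.left.Opens, (∀ p : ↥(𝟙_ (Over S)).left, η[G].left.base p ∈ W) ∧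
      UniversallyOpen (W.ι ≫ G.hom))
    (hΦ : Surjective (lift a.act (snd G X)).left)
    (hirr : ∀ s : S, IsPreirreducible (X.hom.base ⁻¹' {s})) :
    IsSeparated X.hom := by
  obtain ⟨W, hW1, hW2⟩ := hGo
  haveI := hW2
  have hclosed : IsClosed (Set.range (pullback.diagonal X.hom).base) := by
    rw [← diag_left_eq]
    apply isClosed_of_closure_subset
    intro z hz
    exact mem_range_diag' a W hW1 hΦ hirr z hz
  exact ⟨IsClosedImmersion.of_isPreimmersion _ hclosed⟩


/-- a quasi-separated connected fibre of a homogeneous space is irreducible -/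
theorem isPreirreducible_fibre_of_quasiSeparated
    (hΦ : Surjective (lift a.act (snd G X)).left) (s : S)
    (hqs : QuasiSeparatedSpace ↥(X.hom.base ⁻¹' {s}))
    (hconn : _root_.IsPreconnected (X.hom.base ⁻¹' {s})) :
    IsPreirreducible (X.hom.base ⁻¹' {s}) := by
  let κ : Type u := S.residueField s
  let g : Spec (CommRingCat.of κ) ⟶ S := S.fromSpecResidueField s
  let Gs : Over (Spec (CommRingCat.of κ)) := Red.bc g G
  let Xs : Over (Spec (CommRingCat.of κ)) := Red.bc g X
  let as : AlgGrp.Action Gs Xs := a.bc g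
  have hΦs : Surjective (lift as.act (snd Gs Xs)).left :=
    Groth.Agent.Lib.Helper24.HomogSep.surjective_bc g a hΦ
  let e : Xs.left ≃ₜ ↥(X.hom.base ⁻¹' {s}) := X.hom.fiberHomeo s
  haveI : QuasiSeparatedSpace Xs.left := (quasiSeparatedSpace_congr e).2 hqs
  haveI : PreconnectedSpace ↥(X.hom.base ⁻¹' {s}) := Subtype.preconnectedSpace hconn
  haveI : PreconnectedSpace Xs.left :=
    e.symm.surjective.denseRange.preconnectedSpace e.symm.continuous
  rw [isPreirreducible_iff_preirreducibleSpace]
  suffices PreirreducibleSpace Xs.left from e.surjective.preirreducibleSpace e.continuous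
  by_cases hne : Nonempty Xs.left
  · obtain ⟨xs⟩ := hne
    have h1 := connectedComponent_eq_irreducibleComponent as hΦs xs
    rw [PreconnectedSpace.connectedComponent_eq_univ] at h1
    exact ⟨by rw [h1]; exact isIrreducible_irreducibleComponent.isPreirreducible⟩
  · haveI : IsEmpty Xs.left := not_nonempty_iff.1 hne
    refine ⟨?_⟩
    rw [Set.univ_eq_empty_iff.2 inferInstance]
    exact isPreirreducible_empty

end main

end Groth.Agent.Lib.Helper24.NFT
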